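import Mathlib

/-!
# Helper23 — RDInj.BaerFP: two algebraic lemmas for Baer's criterion on stalks
* restriction of scalars along a flat ring map preserves injective modules;
* over a Noetherian ring, an ideal has a finite presentation through which compatible families lift.
-/

set_option autoImplicit false
set_option linter.style.haveILetI false

open CategoryTheory CategoryTheory.Limits

namespace Groth.Agent.Lib.Helper23.RDInj

universe u

/-- restriction of scalars along a flat ring homomorphism preserves injective modules. -/
theorem injective_compHom_of_flat {B C : Type u} [CommRing B] [CommRing C] (f : B →+* C)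
    (hf : f.Flat) (Q : Type u) [AddCommGroup Q] [Module C Q] [Module.Injective C Q] :
    @Module.Injective B _ Q _ (Module.compHom Q f) := by
  haveI : PreservesFiniteLimits (ModuleCat.extendScalars.{u, u, u} f) :=
    ModuleCat.preservesFiniteLimits_extendScalars_of_flat hf
  haveI : Injective (ModuleCat.of C Q) := Module.injective_object_of_injective_module C Q
  haveI : Injective ((ModuleCat.restrictScalars f).obj (ModuleCat.of C Q)) :=
    Injective.injective_of_adjoint (ModuleCat.extendRestrictScalarsAdj.{u, u, u} f) _
  exact Module.injective_module_of_injective_object B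
    ((ModuleCat.restrictScalars f).obj (ModuleCat.of C Q))

/-- over a Noetherian ring, an ideal has finitely many generators and finitely many relations between
them such that every family in a module satisfying the relations is the image of the generators
under a linear map. -/
theorem exists_fin_presentation {B : Type u} [CommRing B] [IsNoetherianRing B] (𝔟 : Ideal B) :
    ∃ (n : ℕ) (b : Fin n → 𝔟) (m : ℕ) (k : Fin m → (Fin n → B)),
      Submodule.span B (Set.range b) = ⊤ ∧ (∀ l, ∑ i, k l i • b i = 0) ∧
      ∀ (P : Type u) [AddCommGroup P] [Module B P] (y : Fin n → P),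
        (∀ l, ∑ i, k l i • y i = 0) → ∃ ψ : 𝔟 →ₗ[B] P, ∀ i, ψ (b i) = y i := by
  have hfg : (⊤ : Submodule B 𝔟).FG := (isNoetherian_def.1 inferInstance) ⊤
  obtain ⟨n, b, hb⟩ := Submodule.fg_iff_exists_fin_generating_family.1 hfg
  let π : (Fin n → B) →ₗ[B] 𝔟 := Fintype.linearCombination B b
  have hπ : Function.Surjective π := by
    rw [← LinearMap.range_eq_top, Fintype.range_linearCombination]
    exact hb
  have hK : (LinearMap.ker π).FG := (isNoetherian_def.1 inferInstance) _
  obtain ⟨m, k, hk⟩ := Submodule.fg_iff_exists_fin_generating_family.1 hK
  have hkmem : ∀ l, k l ∈ LinearMap.ker π := fun l => by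
    rw [← hk]
    exact Submodule.subset_span ⟨l, rfl⟩
  refine ⟨n, b, m, k, hb, ?_, ?_⟩
  · intro l
    have := hkmem l
    rw [LinearMap.mem_ker] at this
    simpa [π, Fintype.linearCombination_apply] using this
  · intro P _ _ y hy
    let ψ' : (Fin n → B) →ₗ[B] P := Fintype.linearCombination B y
    have hle : LinearMap.ker π ≤ LinearMap.ker ψ' := by
      rw [← hk, Submodule.span_le]
      rintro _ ⟨l, rfl⟩
      change k l ∈ LinearMap.ker ψ'
      rw [LinearMap.mem_ker]
      simpa [ψ', Fintype.linearCombination_apply] using hy l
    let e := LinearMap.quotKerEquivOfSurjective π hπ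
    let ψ : 𝔟 →ₗ[B] P := ((LinearMap.ker π).liftQ ψ' hle) ∘ₗ e.symm.toLinearMap
    refine ⟨ψ, fun i => ?_⟩
    have h1 : b i = π (Pi.single i 1) := by
      simp [π, Fintype.linearCombination_apply_single]
    have h2 : e.symm (π (Pi.single i 1)) = Submodule.Quotient.mk (Pi.single i 1) := by
      rw [LinearEquiv.symm_apply_eq]
      rfl
    change ((LinearMap.ker π).liftQ ψ' hle) (e.symm (b i)) = y i
    rw [h1, h2, Submodule.liftQ_apply]
    simp [ψ', Fintype.linearCombination_apply_single]

end Groth.Agent.Lib.Helper23.RDInj
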