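import Mathlib

/-!
# Helper23 — RDInj.EssLoc: over a Noetherian ring, localization preserves essential extensions
-/

set_option autoImplicit false
set_option linter.style.haveILetI false

namespace Groth.Agent.Lib.Helper23.RDInj

universe u v

variable {A : Type u} [CommRing A] [IsNoetherianRing A] (S : Submonoid A)
  {M N M' N' : Type v} [AddCommGroup M] [Module A M] [AddCommGroup N] [Module A N]
  [AddCommGroup M'] [Module A M'] [AddCommGroup N'] [Module A N']

/-- elementwise essentialness. -/
def EssElt (i : M →ₗ[A] N) : Prop :=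
  ∀ n : N, n ≠ 0 → ∃ a : A, a • n ≠ 0 ∧ a • n ∈ LinearMap.range i

theorem essElt_localization (i : M →ₗ[A] N) (hi : EssElt i)
    (f : M →ₗ[A] M') (g : N →ₗ[A] N') [IsLocalizedModule S f] [IsLocalizedModule S g]
    (i' : M' →ₗ[A] N') (hi' : ∀ m, i' (f m) = g (i m)) : EssElt i' := by
  intro n' hn'
  obtain ⟨⟨n, s⟩, hns⟩ := IsLocalizedModule.surj S g n'
  -- `hns : s • n' = g n`
  have hinj : ∀ (t : S) (z : N'), t • z = 0 → z = 0 := by
    intro t z hz
    have := (IsLocalizedModule.map_units g t).mul_left_eq_zero (a := 1)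
    have h1 : (algebraMap A (Module.End A N') t) z = 0 := hz
    have h2 := (IsLocalizedModule.map_units g t)
    have h3 : Function.Injective (algebraMap A (Module.End A N') t) :=
      ((Module.End.isUnit_iff _).1 h2).injective
    exact h3 (by rw [h1, map_zero])
  -- choose `t₀` with maximal annihilator
  let 𝒮 : Set (Ideal A) := {𝔟 | ∃ t : S, 𝔟 = (Submodule.span A {(t : A) • n}).annihilator}
  have hne : 𝒮.Nonempty := ⟨_, ⟨1, rfl⟩⟩
  obtain ⟨𝔟, ⟨t₀, rfl⟩, hmax⟩ := set_has_maximal_iff_noetherian.2 inferInstance 𝒮 hne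
  set y : N := (t₀ : A) • n with hy
  have hgy : g y ≠ 0 := by
    intro h0
    apply hn'
    apply hinj s
    have : (s : A) • n' = g n := hns
    change (s : A) • n' = 0
    rw [this]
    apply hinj t₀
    change (t₀ : A) • g n = 0
    rw [← map_smul]
    exact h0
  have hy0 : y ≠ 0 := fun h => hgy (by rw [h, map_zero])
  obtain ⟨a, ha0, m, hm⟩ := hi y hy0
  have hga : g (a • y) ≠ 0 := by
    intro h0
    obtain ⟨t, ht⟩ := (IsLocalizedModule.eq_zero_iff S g).1 h0
    apply ha0
    -- `a ∈ Ann (t t₀ n) = Ann (t₀ n)`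
    have hle : (Submodule.span A {(t₀ : A) • n}).annihilator ≤
        (Submodule.span A {((t * t₀ : S) : A) • n}).annihilator := by
      intro b hb
      rw [Submodule.mem_annihilator_span_singleton] at hb ⊢
      rw [Submonoid.coe_mul, mul_smul, smul_comm, hb, smul_zero]
    have heq : (Submodule.span A {((t * t₀ : S) : A) • n}).annihilator ≤
        (Submodule.span A {(t₀ : A) • n}).annihilator :=
      (eq_of_le_of_not_lt hle (hmax _ ⟨t * t₀, rfl⟩)).ge
    have hmem : a ∈ (Submodule.span A {((t * t₀ : S) : A) • n}).annihilator := by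
      rw [Submodule.mem_annihilator_span_singleton, Submonoid.coe_mul, mul_smul, smul_comm]
      exact ht
    have hmem' : a ∈ (Submodule.span A {(t₀ : A) • n}).annihilator := heq hmem
    rw [Submodule.mem_annihilator_span_singleton] at hmem'
    exact hmem'
  refine ⟨a * t₀ * s, ?_, f m, ?_⟩
  · have e1 : (a * t₀ * s) • n' = g (a • y) := by
      rw [mul_smul, mul_smul]
      have : (s : A) • n' = g n := hns
      rw [this, ← map_smul, ← map_smul]
    rw [e1]
    exact hga
  · rw [hi', hm, mul_smul, mul_smul]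
    have : (s : A) • n' = g n := hns
    rw [this, ← map_smul, ← map_smul]

end Groth.Agent.Lib.Helper23.RDInj
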