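import Mathlib
import Groth.Agent.Lib.Helper23.GrothInj.Summand

/-!
# Helper23 — RDInj.EssMono: essential monomorphisms (functional form); uniqueness of injective hulls;
existence of injective hulls in a Grothendieck abelian category
-/

set_option autoImplicit false
set_option linter.style.haveILetI false
set_option linter.unusedSectionVars false
universe w v u

namespace Groth.Agent.Lib.Helper23.RDInj

open CategoryTheory CategoryTheory.Limits
open Groth.Agent.Lib.Helper23.GrothInj

section Abelian

variable {C : Type u} [Category.{v} C] [Abelian C]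

/-- an essential monomorphism: a mono `m` such that any `g` with `m ≫ g` mono is mono. -/
def EssMono {M E : C} (m : M ⟶ E) : Prop :=
  Mono m ∧ ∀ ⦃Z : C⦄ (g : E ⟶ Z), Mono (m ≫ g) → Mono g

lemma EssMono.of_iso_comp {M M' E : C} (e : M' ≅ M) {m : M ⟶ E} (h : EssMono m) :
    EssMono (e.hom ≫ m) := by
  haveI := h.1
  refine ⟨inferInstance, fun Z g hg => h.2 g ?_⟩
  have : m ≫ g = e.inv ≫ (e.hom ≫ m) ≫ g := by simp
  rw [this]
  infer_instance

/-- a comparison map between two injective hulls is an isomorphism. -/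
theorem isIso_of_essMono {M N E : C} {a : M ⟶ N} {b : M ⟶ E} (ha : EssMono a) (hb : EssMono b)
    [Injective N] (ψ : N ⟶ E) (hψ : a ≫ ψ = b) : IsIso ψ := by
  haveI : Mono ψ := ha.2 ψ (by rw [hψ]; exact hb.1)
  let ρ : E ⟶ N := Injective.factorThru (𝟙 N) ψ
  have hρ : ψ ≫ ρ = 𝟙 N := Injective.comp_factorThru (𝟙 N) ψ
  haveI : Mono ρ := hb.2 ρ (by
    rw [← hψ, Category.assoc, hρ, Category.comp_id]
    exact ha.1)
  haveI : IsSplitEpi ρ := IsSplitEpi.mk' ⟨ψ, hρ⟩
  haveI : IsIso ρ := isIso_of_mono_of_isSplitEpi ρ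
  haveI : IsIso (ψ ≫ ρ) := by rw [hρ]; infer_instance
  exact IsIso.of_isIso_comp_right ψ ρ

end Abelian

section Grothendieck

variable {C : Type u} [Category.{v} C] [Abelian C] [IsGrothendieckAbelian.{w} C]

/-- every object of a Grothendieck abelian category has an injective hull. -/
theorem exists_essMono_injective (J : C) :
    ∃ (E : C) (m : J ⟶ E), Injective E ∧ EssMono m := by
  haveI : EnoughInjectives C := inferInstance
  let I : C := Injective.under J
  let i : J ⟶ I := Injective.ι J
  obtain ⟨E, hess, -, hinj⟩ := exists_ess_retract.{w} (Subobject.mk i)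
  let m : J ⟶ (E : C) := (Subobject.underlyingIso i).inv ≫ Subobject.ofLE _ _ hess.1
  have hm : m ≫ E.arrow = i := by
    dsimp only [m]
    rw [Category.assoc, Subobject.ofLE_arrow]
    exact Subobject.underlyingIso_arrow i
  haveI : Mono m := mono_of_mono_fac hm
  refine ⟨(E : C), m, hinj, inferInstance, fun Z g hg => ?_⟩
  let W : Subobject I := Subobject.mk (kernel.ι g ≫ E.arrow)
  have hWE : W ≤ E := Subobject.mk_le_of_comm (kernel.ι g) rfl
  have hW : W ⊓ Subobject.mk i = ⊥ := by
    apply inf_eq_bot_of_factors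
    intro T z hz1 hz2
    rw [mk_factors_iff'] at hz1 hz2
    obtain ⟨a, ha⟩ := hz1
    obtain ⟨b, hb⟩ := hz2
    have h1 : a ≫ kernel.ι g = b ≫ m := by
      rw [← cancel_mono E.arrow, Category.assoc, Category.assoc, hm, ha, hb]
    have h2 : b ≫ (m ≫ g) = 0 := by
      rw [← Category.assoc, ← h1, Category.assoc, kernel.condition, comp_zero]
    have h3 : b = 0 := by
      rw [← cancel_mono (m ≫ g), h2, zero_comp]
    rw [← hb, h3, zero_comp]
  have hW0 : W = ⊥ := hess.2 W hWE hW
  have h4 : kernel.ι g ≫ E.arrow = 0 := Subobject.mk_eq_bot_iff_zero.1 hW0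
  have h5 : kernel.ι g = 0 := by
    rw [← cancel_mono E.arrow, h4, zero_comp]
  exact Preadditive.mono_of_kernel_zero h5

end Grothendieck

end Groth.Agent.Lib.Helper23.RDInj
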