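import Mathlib
import Groth.Prelude.Def_CxOX
import Groth.Agent.Lib.Helper16.Sky4
import Groth.Agent.Lib.Helper16.Stk4
import Groth.Agent.Lib.Helper23.RDInj.EssMono

/-!
# Helper23 — RDInj.EssRestrict: the restriction of an essential monomorphism of `O`-modules to an open
subscheme is essential (via extension by zero and stalks)
-/

set_option autoImplicit false
set_option linter.style.haveILetI false
set_option backward.isDefEq.respectTransparency.types false

open CategoryTheory CategoryTheory.Limits AlgebraicGeometry TopologicalSpace Opposite

namespace Groth.Agent.Lib.Helper23.RDInj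

open Groth.Agent.Lib.Helper16.Stk

universe u

variable {U Y : Scheme.{u}} (f : U ⟶ Y) [IsOpenImmersion f]

/-- sections of a zero module are trivial. -/
lemma subsingleton_sections_of_isZero {X : Scheme.{u}} (M : X.Modules) (hM : IsZero M)
    (T : X.Opens) : Subsingleton Γ(M, T) := by
  have h : 𝟙 M = 0 := (IsZero.iff_id_eq_zero M).1 hM
  constructor
  intro a b
  have ha : a = 0 := by
    have := congrArg (fun φ => Scheme.Modules.Hom.app φ T a) h
    simpa using this
  have hb : b = 0 := by
    have := congrArg (fun φ => Scheme.Modules.Hom.app φ T b) h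
    simpa using this
  rw [ha, hb]

/-- a module all of whose sections are trivial is zero. -/
lemma isZero_of_subsingleton_sections {X : Scheme.{u}} (M : X.Modules)
    (h : ∀ T : X.Opens, Subsingleton Γ(M, T)) : IsZero M := by
  rw [IsZero.iff_id_eq_zero]
  apply Scheme.Modules.hom_ext
  intro T
  ext s
  haveI := h T
  exact Subsingleton.elim _ _

/-- the restriction of a skyscraper at a point outside the open subscheme vanishes. -/
lemma isZero_restrict_sky (y : Y) (hy : y ∉ Set.range f.base)
    (N : ModuleCat.{u} (Y.presheaf.stalk y)) :
    IsZero ((Scheme.Modules.restrictFunctor f).obj ((skyFunctor y).obj N)) := by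
  apply isZero_of_subsingleton_sections
  intro T
  change Subsingleton (PLift (y ∈ f ''ᵁ T) → N)
  haveI : IsEmpty (PLift (y ∈ f ''ᵁ T)) := by
    constructor
    rintro ⟨h⟩
    obtain ⟨z, -, hz⟩ := h
    exact hy ⟨z, hz⟩
  infer_instance

/-- the stalks of `j_! K` outside the open subscheme vanish. -/
theorem isZero_stk_extZero (K : U.Modules) (y : Y) (hy : y ∉ Set.range f.base) :
    IsZero ((stk y).obj ((CxOX.extZero f).obj K)) := by
  set N := (stk y).obj ((CxOX.extZero f).obj K) with hN
  have hsub : Subsingleton ((CxOX.extZero f).obj K ⟶ (skyFunctor y).obj N) := by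
    have e := (CxOX.extZeroAdj f).homEquiv K ((skyFunctor y).obj N)
    have hz := isZero_restrict_sky f y hy N
    constructor
    intro a b
    apply e.injective
    exact hz.eq_of_tgt _ _
  have hsub' : Subsingleton (N ⟶ N) := by
    have e := (stkSkyAdj y).homEquiv ((CxOX.extZero f).obj K) N
    constructor
    intro a b
    apply e.injective
    exact Subsingleton.elim _ _
  rw [IsZero.iff_id_eq_zero]
  exact Subsingleton.elim _ _

/-- the stalk of `D` at a point of the open subscheme vanishes if the restriction of `D` does. -/
theorem isZero_stk_of_isZero_restrict (D : Y.Modules)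
    (hD : IsZero ((Scheme.Modules.restrictFunctor f).obj D)) (y' : U) :
    IsZero ((stk (f.base y')).obj D) := by
  have key : ∀ a : D.presheaf.stalk (f.base y'), a = 0 := by
    intro a
    obtain ⟨T, hT, s, rfl⟩ := TopCat.Presheaf.exists_germ_eq D.presheaf a
    let T' : U.Opens := f ⁻¹ᵁ T
    have hle : f ''ᵁ T' ≤ T := by
      rintro _ ⟨z, hz, rfl⟩
      exact hz
    have hmem : f.base y' ∈ f ''ᵁ T' := ⟨y', hT, rfl⟩
    haveI : Subsingleton Γ(D, f ''ᵁ T') :=
      subsingleton_sections_of_isZero ((Scheme.Modules.restrictFunctor f).obj D) hD T'
    have h1 := TopCat.Presheaf.germ_res_apply D.presheaf (homOfLE hle) (f.base y') hmem s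
    rw [← h1, Subsingleton.elim (D.presheaf.map (homOfLE hle).op s) 0, map_zero]
  haveI : Subsingleton ((stk (f.base y')).obj D) := ⟨fun a b => by
    have ha : a = 0 := key a
    have hb : b = 0 := key b
    rw [ha, hb]⟩
  exact ModuleCat.isZero_of_subsingleton _

/-- **restriction of an essential monomorphism to an open subscheme is essential.** -/
theorem essMono_restrict {J E : Y.Modules} (m : J ⟶ E) (hm : EssMono m) :
    EssMono ((Scheme.Modules.restrictFunctor f).map m) := by
  haveI := hm.1
  haveI hFm : Mono ((Scheme.Modules.restrictFunctor f).map m) := inferInstance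
  refine ⟨hFm, fun Z g hg => ?_⟩
  let k : kernel g ⟶ (Scheme.Modules.restrictFunctor f).obj E := kernel.ι g
  let s : (CxOX.extZero f).obj (kernel g) ⟶ E := ((CxOX.extZeroAdj f).homEquiv (kernel g) E).symm k
  have hs : (CxOX.extZeroAdj f).homEquiv (kernel g) E s = k := Equiv.apply_symm_apply _ _
  -- the restriction of `s` is killed by `g`
  have hFs : (Scheme.Modules.restrictFunctor f).map s ≫ g = 0 := by
    let h : E ⟶ (Scheme.Modules.pushforward f).obj Z :=
      (Scheme.Modules.restrictAdjunction f).homEquiv E Z g
    have hg' : g = (Scheme.Modules.restrictFunctor f).map h ≫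
        (Scheme.Modules.restrictAdjunction f).counit.app Z := by
      have e1 : g = ((Scheme.Modules.restrictAdjunction f).homEquiv E Z).symm h :=
        (Equiv.symm_apply_apply _ _).symm
      rw [Adjunction.homEquiv_counit] at e1
      exact e1
    have h1 : k ≫ (Scheme.Modules.restrictFunctor f).map h = 0 := by
      rw [← cancel_mono ((Scheme.Modules.restrictAdjunction f).counit.app Z), Category.assoc,
        ← hg', zero_comp]
      exact kernel.condition g
    have h2 : s ≫ h = 0 := by
      have e1 : (CxOX.extZeroAdj f).homEquiv (kernel g) _ (s ≫ h) = 0 := by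
        rw [Adjunction.homEquiv_naturality_right, hs]
        exact h1
      have e2 : s ≫ h = ((CxOX.extZeroAdj f).homEquiv (kernel g) _).symm 0 := by
        rw [← e1, Equiv.symm_apply_apply]
      rw [e2, Adjunction.homEquiv_counit, Functor.map_zero, zero_comp]
    have e3 : (Scheme.Modules.restrictFunctor f).map s ≫ g =
        (Scheme.Modules.restrictFunctor f).map s ≫ ((Scheme.Modules.restrictFunctor f).map h ≫
          (Scheme.Modules.restrictAdjunction f).counit.app Z) := congrArg _ hg'
    rw [e3, ← Category.assoc, ← Functor.map_comp, h2, Functor.map_zero, zero_comp]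
  -- `J` meets the image of `s` trivially
  haveI hmc : Mono (m ≫ cokernel.π s) := by
    apply Preadditive.mono_of_kernel_zero
    let D := kernel (m ≫ cokernel.π s)
    let d : D ⟶ J := kernel.ι (m ≫ cokernel.π s)
    let l : D ⟶ Abelian.image s := kernel.lift (cokernel.π s) (d ≫ m) (by
      rw [Category.assoc]
      exact kernel.condition _)
    have hl : l ≫ Abelian.image.ι s = d ≫ m := kernel.lift_ι _ _ _
    haveI : Mono l := mono_of_mono_fac hl
    have hD : IsZero D := by
      apply isZero_of_forall_isZero_stalk
      intro y
      by_cases hy : y ∈ Set.range f.base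
      · obtain ⟨y', rfl⟩ := hy
        apply isZero_stk_of_isZero_restrict f
        -- the restriction of `D` vanishes
        have h3 : (Scheme.Modules.restrictFunctor f).map (Abelian.image.ι s) ≫ g = 0 := by
          haveI : Epi ((Scheme.Modules.restrictFunctor f).map (Abelian.factorThruImage s)) :=
            inferInstance
          rw [← cancel_epi ((Scheme.Modules.restrictFunctor f).map (Abelian.factorThruImage s)),
            ← Category.assoc, ← Functor.map_comp, Abelian.image.fac, comp_zero]
          exact hFs
        have h4 : (Scheme.Modules.restrictFunctor f).map d ≫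
            ((Scheme.Modules.restrictFunctor f).map m ≫ g) = 0 := by
          rw [← Category.assoc, ← Functor.map_comp, ← hl, Functor.map_comp, Category.assoc, h3,
            comp_zero]
        have h5 : (Scheme.Modules.restrictFunctor f).map d = 0 := by
          rw [← cancel_mono ((Scheme.Modules.restrictFunctor f).map m ≫ g), h4, zero_comp]
        haveI : Mono ((Scheme.Modules.restrictFunctor f).map d) := inferInstance
        exact IsZero.of_mono_eq_zero _ h5
      · have h1 := isZero_stk_extZero f (kernel g) y hy
        haveI : Epi ((stk y).map (Abelian.factorThruImage s)) := inferInstance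
        have h2 : IsZero ((stk y).obj (Abelian.image s)) :=
          IsZero.of_epi ((stk y).map (Abelian.factorThruImage s)) h1
        haveI : Mono ((stk y).map l) := inferInstance
        exact IsZero.of_mono ((stk y).map l) h2
    exact hD.eq_of_src _ _
  haveI : Mono (cokernel.π s) := hm.2 _ hmc
  have hs0 : s = 0 := by
    rw [← cancel_mono (cokernel.π s), cokernel.condition, zero_comp]
  have hk0 : k = 0 := by
    rw [← hs, hs0, Adjunction.homEquiv_unit, Functor.map_zero, comp_zero]
  exact Preadditive.mono_of_kernel_zero hk0

end Groth.Agent.Lib.Helper23.RDInj
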