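import Mathlib
import Groth.Agent.S9498
import Groth.Agent.Lib.Helper23.RDInj.EssLoc
import Groth.Agent.Lib.Helper23.RDInj.EssMono

/-!
# Helper23 — RDInj.EssTilde: over a Noetherian ring, `~` sends essential injections of modules to
essential monomorphisms of `O_{Spec R}`-modules
-/

set_option autoImplicit false
set_option linter.style.haveILetI false
set_option backward.isDefEq.respectTransparency.types false

open CategoryTheory CategoryTheory.Limits AlgebraicGeometry TopologicalSpace Opposite

namespace Groth.Agent.Lib.Helper23.RDInj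

universe u

/-- a morphism of modules on a scheme which is injective on all sections is a monomorphism. -/
lemma mono_of_app_injective {X : Scheme.{u}} {F G : X.Modules} (g : F ⟶ G)
    (h : ∀ U : X.Opens, Function.Injective (g.app U)) : Mono g := by
  apply Preadditive.mono_of_cancel_zero
  intro T z hz
  apply Scheme.Modules.hom_ext
  intro U
  ext s
  apply h U
  have := congrArg (fun φ => Scheme.Modules.Hom.app φ U s) hz
  simpa using this

/-- a monomorphism of modules on a scheme is injective on sections. -/
lemma app_injective_of_mono' {X : Scheme.{u}} {M N : X.Modules} (φ : M ⟶ N) [hφ : Mono φ]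
    (U : X.Opens) : Function.Injective (φ.app U) := by
  have h1 : (SheafOfModules.forget X.ringCatSheaf).PreservesMonomorphisms :=
    Functor.preservesMonomorphisms_of_adjunction
      (PresheafOfModules.sheafificationAdjunction (𝟙 X.ringCatSheaf.obj))
  have h2 : Mono φ.val :=
    @Functor.map_mono _ _ _ _ (SheafOfModules.forget X.ringCatSheaf) h1 _ _ φ hφ
  exact PresheafOfModules.injective_of_mono φ.val (op U)

variable {R : CommRingCat.{u}}

/-- the `R`-linear map on sections induced by a morphism of modules on `Spec R`. -/
noncomputable def appₗ {F G : (Spec R).Modules} (g : F ⟶ G) (U : (Spec R).Opens) :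
    Γ(F, U) →ₗ[R] Γ(G, U) :=
  ((modulesSpecToSheaf.map g).1.app (op U)).hom

lemma appₗ_apply {F G : (Spec R).Modules} (g : F ⟶ G) (U : (Spec R).Opens) (s : Γ(F, U)) :
    appₗ g U s = g.app U s := rfl

variable [IsNoetherianRing R]

theorem essMono_tilde_map {M N : ModuleCat.{u} R} (i : M ⟶ N) (hinj : Function.Injective i.hom)
    (hess : EssElt i.hom) : EssMono (tilde.map i) := by
  haveI : PreservesFiniteLimits (tilde.functor R) := (Groth.Agent.S9498.main R).1
  haveI : Mono i := (ModuleCat.mono_iff_injective i).2 hinj
  haveI hmono : Mono (tilde.map i) := (tilde.functor R).map_mono i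
  refine ⟨hmono, fun Z g hg => ?_⟩
  apply mono_of_app_injective
  intro U
  rw [injective_iff_map_eq_zero]
  intro n hn
  by_contra hn0
  -- a point where the germ of `n` is nonzero
  have hex : ∃ (y : PrimeSpectrum.Top R) (hy : y ∈ U), (tilde N).presheaf.germ U y hy n ≠ 0 := by
    by_contra hcon
    push_neg at hcon
    apply hn0
    refine TopCat.Presheaf.section_ext ⟨(tilde N).presheaf, (tilde N).isSheaf⟩ U n 0 ?_
    intro y hy
    rw [hcon y hy, map_zero]
  obtain ⟨y, hy, hgerm⟩ := hex
  obtain ⟨_, ⟨f, rfl⟩, hyf, hfU⟩ := Opens.isBasis_iff_nbhd.1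
    (PrimeSpectrum.isBasis_basic_opens (R := R)) hy
  let D : (Spec R).Opens := PrimeSpectrum.basicOpen f
  let n₁ : Γ(tilde N, D) := (tilde N).presheaf.map (homOfLE hfU).op n
  have hn₁ : n₁ ≠ 0 := by
    intro h0
    apply hgerm
    have := TopCat.Presheaf.germ_res_apply (tilde N).presheaf (homOfLE hfU) y hyf n
    rw [← this]
    change (tilde N).presheaf.germ D y hyf n₁ = 0
    rw [h0, map_zero]
  have hgn₁ : g.app D n₁ = 0 := by
    have h1 := congrArg (fun φ => φ n) (g.mapPresheaf.naturality (homOfLE hfU).op)
    simp only [Scheme.Modules.mapPresheaf_app] at h1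
    change g.app D n₁ = Z.presheaf.map (homOfLE hfU).op (g.app U n) at h1
    rw [h1, hn]
    exact map_zero _
  -- essentialness after localization
  have hloc : EssElt (appₗ (tilde.map i) D) := by
    refine essElt_localization (Submonoid.powers (f : R)) i.hom hess
      (tilde.toOpen M D).hom (tilde.toOpen N D).hom (appₗ (tilde.map i) D) ?_
    intro m
    have := congrArg (fun φ => φ.hom m) (tilde.toOpen_map_app i D)
    exact this
  obtain ⟨a, ha0, m', hm'⟩ := hloc n₁ hn₁
  have h2 : appₗ g D (a • n₁) = 0 := by
    rw [map_smul, appₗ_apply, hgn₁, smul_zero]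
  have h3 : (tilde.map i ≫ g).app D m' = 0 := by
    rw [Scheme.Modules.Hom.comp_app]
    change g.app D ((tilde.map i).app D m') = 0
    have : (tilde.map i).app D m' = a • n₁ := hm'
    rw [this]
    exact h2
  have h4 : m' = 0 := by
    apply app_injective_of_mono' (tilde.map i ≫ g) D
    rw [h3, map_zero]
  apply ha0
  rw [← hm', h4, map_zero]

end Groth.Agent.Lib.Helper23.RDInj
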