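import Mathlib
import Groth.Prelude.Def_CxOX
import Groth.Prelude.Def_DCoh4
import Groth.Agent.Lib.Helper6.HomAdj
import Groth.Agent.Lib.Helper23.RDInj.EssRestrict

/-!
# Helper23 — RDInj.HomFlasque: sections of the sheaf Hom as morphisms of restrictions, and flasqueness of
`Hom(F, I)` for `I` injective
-/

set_option autoImplicit false
set_option linter.style.haveILetI false
set_option backward.isDefEq.respectTransparency.types false

open CategoryTheory CategoryTheory.Limits AlgebraicGeometry TopologicalSpace Opposite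

namespace Groth.Agent.Lib.Helper23.RDInj

open Groth.Agent.Lib.Helper16.Stk
open Groth.Agent.Lib.Helper28 Groth.Agent.Lib.Helper28.QCohLoc Groth.Agent.Lib.Helper28.HomMod
  Groth.Agent.Lib.Helper6.HomAdj

universe u

section Counit

variable {U Y : Scheme.{u}} (f : U ⟶ Y) [IsOpenImmersion f]

/-- the unit of `j_! ⊣ j^*` is an isomorphism. -/
lemma isIso_extZeroAdj_unit : IsIso (CxOX.extZeroAdj f).unit :=
  (Adjunction.Triple.isIso_unit_iff_isIso_counit
    ⟨CxOX.extZeroAdj f, Scheme.Modules.restrictAdjunction f⟩).2 inferInstance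

/-- the restriction of the counit `j_! j^* M ⟶ M` is an isomorphism. -/
lemma isIso_restrict_counit (M : Y.Modules) :
    IsIso ((Scheme.Modules.restrictFunctor f).map ((CxOX.extZeroAdj f).counit.app M)) := by
  have h := (CxOX.extZeroAdj f).right_triangle_components M
  haveI := isIso_extZeroAdj_unit f
  haveI : IsIso ((CxOX.extZeroAdj f).unit.app ((Scheme.Modules.restrictFunctor f).obj M)) :=
    inferInstance
  exact IsIso.of_isIso_fac_left h

/-- **the counit `j_! j^* M ⟶ M` is a monomorphism.** -/
theorem mono_extZeroAdj_counit_app (M : Y.Modules) :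
    Mono ((CxOX.extZeroAdj f).counit.app M) := by
  set c := (CxOX.extZeroAdj f).counit.app M with hc
  apply Preadditive.mono_of_kernel_zero
  have hK : IsZero (kernel c) := by
    apply isZero_of_forall_isZero_stalk
    intro y
    by_cases hy : y ∈ Set.range f.base
    · obtain ⟨y', rfl⟩ := hy
      apply isZero_stk_of_isZero_restrict f
      haveI := isIso_restrict_counit f M
      have h1 : (Scheme.Modules.restrictFunctor f).map (kernel.ι c) ≫
          (Scheme.Modules.restrictFunctor f).map c = 0 := by
        rw [← Functor.map_comp, kernel.condition, Functor.map_zero]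
      have h2 : (Scheme.Modules.restrictFunctor f).map (kernel.ι c) = 0 := by
        rw [← cancel_mono ((Scheme.Modules.restrictFunctor f).map c), h1, zero_comp]
      haveI : Mono ((Scheme.Modules.restrictFunctor f).map (kernel.ι c)) := inferInstance
      exact IsZero.of_mono_eq_zero _ h2
    · have h1 := isZero_stk_extZero f ((Scheme.Modules.restrictFunctor f).obj M) y hy
      haveI : Mono ((stk y).map (kernel.ι c)) := inferInstance
      exact IsZero.of_mono ((stk y).map (kernel.ι c)) h1
  exact hK.eq_of_src _ _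

end Counit

section Sec

variable {X : Scheme.{u}} (F I : X.Modules) (U : X.Opens)

/-- a section of `Hom(F, I)` over `U` as a morphism `F|_U ⟶ I|_U`. -/
noncomputable def ofSec (s : Γ(homMod F I, U)) :
    (Scheme.Modules.restrictFunctor U.ι).obj F ⟶ (Scheme.Modules.restrictFunctor U.ι).obj I :=
  mkHom _ _
    (fun T (x : Γ(F, U.ι ''ᵁ T)) => (ev s (U.ι_image_le T) x : Γ(I, U.ι ''ᵁ T)))
    (fun T x y => ev_add s (U.ι_image_le T) x y)
    (fun T a x => ev_smul s (U.ι_image_le T) ((U.ι.appIso T).inv a) x)
    (fun T T' h x => ev_res s (U.ι_image_le T) (Scheme.Hom.image_mono _ h) x)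

lemma ofSec_app (s : Γ(homMod F I, U)) (T : (U : Scheme.{u}).Opens) (x : Γ(F, U.ι ''ᵁ T)) :
    (ofSec F I U s).app T x = ev s (U.ι_image_le T) x := rfl

variable {F I U}

/-- naturality of a morphism of modules with respect to restriction of sections. -/
lemma app_res {M N : X.Modules} (ψ : M ⟶ N) {V W : X.Opens} (h : W ≤ V) (x : Γ(M, V)) :
    ψ.app W (res M h x) = res N h (ψ.app V x) := by
  have := ψ.mapPresheaf.naturality (homOfLE h).op
  exact congr($this x)

/-- **extension of a section of `Hom(F, I)` over `U` to a global homomorphism, for `I` injective.** -/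
theorem exists_extension [Injective I] (s : Γ(homMod F I, U)) :
    ∃ ψ : F ⟶ I, ∀ (W : X.Opens) (hW : W ≤ U) (x : Γ(F, W)), ψ.app W x = ev s hW x := by
  let adj := CxOX.extZeroAdj U.ι
  let R := Scheme.Modules.restrictFunctor U.ι
  let c := adj.counit.app F
  haveI : Mono c := mono_extZeroAdj_counit_app U.ι F
  let ψ₀ : (CxOX.extZero U.ι).obj (R.obj F) ⟶ I := (adj.homEquiv _ _).symm (ofSec F I U s)
  let ψ : F ⟶ I := Injective.factorThru ψ₀ c
  have hψ : c ≫ ψ = ψ₀ := Injective.comp_factorThru ψ₀ c
  have hR : R.map ψ = ofSec F I U s := by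
    have h1 : adj.homEquiv _ _ (c ≫ ψ) = ofSec F I U s := by
      rw [hψ]
      exact Equiv.apply_symm_apply _ _
    rw [Adjunction.homEquiv_unit, Functor.map_comp, ← Category.assoc] at h1
    have h2 := adj.right_triangle_components F
    rw [h2, Category.id_comp] at h1
    exact h1
  refine ⟨ψ, fun W hW x => ?_⟩
  let T : (U : Scheme.{u}).Opens := U.ι ⁻¹ᵁ W
  have hTW : U.ι ''ᵁ T = W := by
    rw [Scheme.Hom.image_preimage_eq_opensRange_inf, Scheme.Opens.opensRange_ι]
    exact inf_eq_right.2 hW
  have hle : U.ι ''ᵁ T ≤ W := hTW.le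
  have hge : W ≤ U.ι ''ᵁ T := hTW.ge
  have hx : x = res F hge (res F hle x) := by
    rw [res_res]
    exact (res_self F x).symm
  have h3 : ψ.app (U.ι ''ᵁ T) (res F hle x) = ev s (U.ι_image_le T) (res F hle x) := by
    have := congrArg (fun φ => Scheme.Modules.Hom.app φ T (res F hle x)) hR
    exact this
  calc ψ.app W x = ψ.app W (res F hge (res F hle x)) := by rw [← hx]
    _ = res I hge (ψ.app (U.ι ''ᵁ T) (res F hle x)) := app_res ψ hge _
    _ = res I hge (ev s (U.ι_image_le T) (res F hle x)) := by rw [h3]
    _ = res I hge (res I hle (ev s hW x)) := by rw [← ev_res s hW hle x]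
    _ = ev s hW x := by
      rw [res_res]
      exact res_self I _

/-- **`Hom(F, I)` is flasque for `I` injective** (concrete sheaf Hom). -/
theorem homMod_flasque [Injective I] {U V : X.Opens} (hUV : U ≤ V) :
    Function.Surjective (res (homMod F I) hUV) := by
  intro s
  obtain ⟨ψ, hψ⟩ := exists_extension s
  refine ⟨mkSec (fun W _ x => ψ.app W x) (fun W _ x y => map_add _ x y)
    (fun W _ a x => Scheme.Modules.Hom.app_smul ψ a x)
    (fun W W' _ h' x => app_res ψ h' x), ?_⟩
  refine ext_ev _ _ fun W hW x => ?_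
  rw [res_ev, ev_mkSec]
  exact hψ W hW x

end Sec

end Groth.Agent.Lib.Helper23.RDInj
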