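import Mathlib
import Groth.Prelude.Def_CxOX
import Groth.Prelude.Def_DCoh4
import Groth.Agent.Lib.Helper6.HomAdj
import Groth.Agent.Lib.Helper21.EpiGen
import Groth.Agent.Lib.Helper23.RDInj.HomFlasque

/-!
# Helper23 — RDInj.ExtOne: if `Hom(G, E) ⟶ Hom(G, E/F)` is an epimorphism of sheaves for an
essential extension `F ⊆ E`, then every `G ⊆ E/F` vanishes
-/

set_option autoImplicit false
set_option linter.style.haveILetI false
set_option backward.isDefEq.respectTransparency.types false

open CategoryTheory CategoryTheory.Limits AlgebraicGeometry TopologicalSpace Opposite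

namespace Groth.Agent.Lib.Helper23.RDInj

open Groth.Agent.Lib.Helper16.Stk
open Groth.Agent.Lib.Helper28 Groth.Agent.Lib.Helper28.QCohLoc Groth.Agent.Lib.Helper28.HomMod
  Groth.Agent.Lib.Helper6.HomAdj

universe v u

section Abstract

variable {C : Type u} [Category.{v} C] [Abelian C]

/-- if `F ⊆ E` is essential, `F` is killed by `π : E ⟶ Q`, and `a : G ⟶ E` is such that `a ≫ π` is a
monomorphism, then `G = 0`. -/
theorem isZero_of_essMono_of_mono_comp {F E Q G : C} (m : F ⟶ E) (hm : EssMono m) (π : E ⟶ Q)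
    (hmπ : m ≫ π = 0) (a : G ⟶ E) (ha : Mono (a ≫ π)) : IsZero G := by
  haveI := hm.1
  haveI : Mono a := mono_of_mono a π
  have hmc : Mono (m ≫ cokernel.π a) := by
    apply Preadditive.mono_of_kernel_zero
    set d := kernel.ι (m ≫ cokernel.π a) with hd
    have h1 : (d ≫ m) ≫ cokernel.π a = 0 := by
      rw [Category.assoc]
      exact kernel.condition _
    -- `d ≫ m` factors through `a`
    let l := Abelian.monoLift a (d ≫ m) h1
    have hl : l ≫ a = d ≫ m := Abelian.monoLift_comp a (d ≫ m) h1
    have h2 : l ≫ (a ≫ π) = 0 := by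
      rw [← Category.assoc, hl, Category.assoc, hmπ, comp_zero]
    have h3 : l = 0 := by
      rw [← cancel_mono (a ≫ π), h2, zero_comp]
    have h4 : d ≫ m = 0 := by rw [← hl, h3, zero_comp]
    rw [← cancel_mono m, h4, zero_comp]
  haveI : Mono (cokernel.π a) := hm.2 _ hmc
  have ha0 : a = 0 := by
    rw [← cancel_mono (cokernel.π a), cokernel.condition, zero_comp]
  have : a ≫ π = 0 := by rw [ha0, zero_comp]
  exact IsZero.of_mono_eq_zero _ this

end Abstract

section Scheme

variable {X : Scheme.{u}}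

/-- a morphism as a global section of the sheaf Hom. -/
noncomputable def secOfHom {G Q : X.Modules} (ι : G ⟶ Q) : Γ(homMod G Q, ⊤) :=
  mkSec (fun W _ x => ι.app W x) (fun W _ x y => map_add _ x y)
    (fun W _ a x => Scheme.Modules.Hom.app_smul ι a x)
    (fun W W' _ h' x => Groth.Agent.Lib.Helper28.QCohLoc.app_res ι h' x)

/-- **if `Hom(G, E) ⟶ Hom(G, Q)` is an epimorphism for an essential `F ⊆ E` killed by `π : E ⟶ Q`,
then every subobject `G ⊆ Q` vanishes.** -/
theorem isZero_of_epi_homModF_map {F E Q G : X.Modules} (m : F ⟶ E) (hm : EssMono m) (π : E ⟶ Q)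
    (hmπ : m ≫ π = 0) (ι : G ⟶ Q) [Mono ι] (hepi : Epi ((homModF G).map π)) : IsZero G := by
  apply isZero_of_forall_isZero_stalk
  intro y
  obtain ⟨V, hV, hyV, lam, hlam⟩ := Groth.Agent.Lib.Helper21.EpiGen.locally_in_range_of_epi
    ((homModF G).map π) ⊤ (secOfHom ι) y trivial
  let R := Scheme.Modules.restrictFunctor V.ι
  let a : R.obj G ⟶ R.obj E := ofSec G E V lam
  have ha : a ≫ R.map π = R.map ι := by
    apply Scheme.Modules.hom_ext
    intro T
    ext x
    have h1 := congrArg (fun s => ev s (V.ι_image_le T) (show Γ(G, V.ι ''ᵁ T) from x)) hlam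
    exact h1
  have hmono : Mono (a ≫ R.map π) := by
    rw [ha]
    infer_instance
  have hess : EssMono (R.map m) := essMono_restrict V.ι m hm
  have hz : R.map m ≫ R.map π = 0 := by
    rw [← Functor.map_comp, hmπ, Functor.map_zero]
  have hG : IsZero (R.obj G) := isZero_of_essMono_of_mono_comp (R.map m) hess (R.map π) hz a hmono
  exact isZero_stk_of_isZero_restrict V.ι G hG ⟨y, hyV⟩

end Scheme

end Groth.Agent.Lib.Helper23.RDInj
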