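import Mathlib
import Groth.Agent.S9498
import Groth.Agent.Lib.Helper17.FlatDict
import Groth.Agent.Lib.Helper29.FPDict
import Groth.Agent.Lib.Helper26.LocInj

/-!
# Helper23 — RDInj.SectionsInj: sections of an injective `O_X`-module over an affine open form an
injective module; stalks of a quasi-coherent injective module on a locally Noetherian scheme
-/

set_option autoImplicit false
set_option linter.style.haveILetI false
set_option backward.isDefEq.respectTransparency.types false

open CategoryTheory CategoryTheory.Limits AlgebraicGeometry TopologicalSpace Opposite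

namespace Groth.Agent.Lib.Helper23.RDInj

open Groth.Agent.Lib.Helper17.ModStalk Groth.Agent.Lib.Helper17.FlatDict

universe u

variable {X : Scheme.{u}}

/-- the global sections functor on `Spec R` preserves injectives. -/
theorem injective_moduleSpecΓ {R : CommRingCat.{u}} (G : (Spec R).Modules) (hG : Injective G) :
    Injective (moduleSpecΓFunctor.obj G) := by
  haveI : PreservesFiniteLimits (tilde.functor R) := (Groth.Agent.S9498.main R).1
  exact Injective.injective_of_adjoint (tilde.adjunction (R := R)) G

/-- sections of an injective `O_X`-module over an affine open form an injective module. -/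
theorem injective_sections_of_injective (F : X.Modules) (hF : Injective F) {U : X.Opens}
    (hU : IsAffineOpen U) : Module.Injective Γ(X, U) Γ(F, U) := by
  let G : (Spec Γ(X, U)).Modules := F.restrict hU.fromSpec
  have hG : Injective G :=
    Groth.Agent.Lib.Helper26.LocInj.injective_restrictFunctor hU.fromSpec F hF
  have h1 : Injective (moduleSpecΓFunctor.obj G) := injective_moduleSpecΓ G hG
  have h2 : Module.Injective Γ(X, U) (moduleSpecΓFunctor.obj G) :=
    Module.injective_module_of_injective_object _ _
  exact (Module.Baer.of_equiv (Groth.Agent.Lib.Helper29.FPDict.linearEquivFromSpec F hU)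
    (Module.Baer.of_injective h2)).injective

/-- stalks of a quasi-coherent injective module on a locally Noetherian scheme are injective. -/
theorem injective_stalk_of_injective_qcoh [IsLocallyNoetherian X] (F : X.Modules)
    [F.IsQuasicoherent] (hF : Injective F) (x : X) :
    Module.Injective (X.presheaf.stalk x) (F.presheaf.stalk x) := by
  obtain ⟨U, hU, hxU, -⟩ := Opens.isBasis_iff_nbhd.1 X.isBasis_affineOpens
    (show x ∈ (⊤ : X.Opens) from trivial)
  haveI : IsNoetherianRing Γ(X, U) := IsLocallyNoetherian.component_noetherian ⟨U, hU⟩
  haveI := injective_sections_of_injective F hF hU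
  letI aB : Algebra Γ(X, U) (X.presheaf.stalk x) := (X.presheaf.germ U x hxU).hom.toAlgebra
  letI mB : Module Γ(X, U) (F.presheaf.stalk x) := moduleStalkSections F U x hxU
  haveI : IsScalarTower Γ(X, U) (X.presheaf.stalk x) (F.presheaf.stalk x) :=
    IsScalarTower.of_compHom _ _ _
  haveI : IsLocalization (hU.primeIdealOf ⟨x, hxU⟩).asIdeal.primeCompl (X.presheaf.stalk x) :=
    hU.isLocalization_stalk ⟨x, hxU⟩
  haveI := isLocalizedModule_germLinear F hU x hxU
  exact Module.injective_of_isLocalizedModule (hU.primeIdealOf ⟨x, hxU⟩).asIdeal.primeCompl
    (germLinear F U x hxU)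

end Groth.Agent.Lib.Helper23.RDInj
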