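import Mathlib
import Groth.Prelude.Def_Wider

/-!
# Helper23 — RDInj.IndecAlg: algebra of the injective hull `E` of `κ(p)` over a Noetherian ring:
elements outside `p` act bijectively, and `E` is `p`-power torsion
-/

set_option autoImplicit false

namespace Groth.Agent.Lib.Helper23.RDInj

universe u

variable {R : Type u} [CommRing R] (p : Ideal R) [p.IsPrime]
variable {E : Type u} [AddCommGroup E] [Module R E]
variable {g : p.ResidueField →ₗ[R] E}

/-- elements of `p` kill the range of `g`. -/
lemma smul_eq_zero_of_mem_range_res {x : E} (hx : x ∈ LinearMap.range g) {a : R} (ha : a ∈ p) :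
    a • x = 0 := by
  obtain ⟨c, rfl⟩ := hx
  rw [← map_smul]
  have : a • c = 0 := by
    rw [Algebra.smul_def, Ideal.algebraMap_residueField_eq_zero.2 ha, zero_mul]
  rw [this, map_zero]

/-- elements outside `p` act injectively on an essential extension of `κ(p)`. -/
lemma smul_injective_of_essential (hg : InjHull.IsEssentialInj g) {s : R} (hs : s ∉ p) :
    Function.Injective (fun e : E => s • e) := by
  intro e e' hee
  by_contra hne
  have hd : e - e' ≠ 0 := sub_ne_zero.2 hne
  have hsd : s • (e - e') = 0 := by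
    rw [smul_sub]
    exact sub_eq_zero.2 hee
  have hspan : Submodule.span R {e - e'} ≠ ⊥ :=
    fun h => hd (Submodule.span_singleton_eq_bot.1 h)
  obtain ⟨y, hy, hy0⟩ := (Submodule.ne_bot_iff _).1 (hg.essential _ hspan)
  obtain ⟨hy1, hy2⟩ := Submodule.mem_inf.1 hy
  obtain ⟨r, rfl⟩ := Submodule.mem_span_singleton.1 hy1
  obtain ⟨c, hc⟩ := hy2
  have h1 : g (s • c) = 0 := by
    rw [map_smul, hc, smul_comm, hsd, smul_zero]
  have h2 : s • c = 0 := hg.injective (by rw [h1, map_zero])
  rw [Algebra.smul_def] at h2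
  have h3 : algebraMap R p.ResidueField s ≠ 0 := fun h =>
    hs (Ideal.algebraMap_residueField_eq_zero.1 h)
  have h4 : c = 0 := (mul_eq_zero.1 h2).resolve_left h3
  apply hy0
  rw [← hc, h4, map_zero]

/-- elements outside `p` act bijectively on an indecomposable injective hull of `κ(p)`. -/
lemma smul_bijective_of_hull (hg : InjHull.IsInjectiveHull g)
    (hE : InjHull.IsIndecomposable R E) {s : R} (hs : s ∉ p) :
    Function.Bijective (fun e : E => s • e) := by
  have hinj := smul_injective_of_essential p hg.toIsEssentialInj hs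
  refine ⟨hinj, ?_⟩
  let ι : E →ₗ[R] E := LinearMap.lsmul R E s
  have hι : Function.Injective ι := hinj
  haveI := hg.isInjective
  obtain ⟨r, hr⟩ := Module.Injective.extension_property R E E E ι hι LinearMap.id
  have hrι : ∀ e, r (ι e) = e := fun e => by
    have := congrArg (fun f => f e) hr
    exact this
  let π : E →ₗ[R] E := ι ∘ₗ r
  have hπ : IsIdempotentElem π := by
    apply LinearMap.ext
    intro e
    change ι (r (ι (r e))) = ι (r e)
    rw [hrι]
  have hc : IsCompl (LinearMap.range π) (LinearMap.ker π) := LinearMap.IsIdempotentElem.isCompl hπ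
  obtain ⟨hnt, hdec⟩ := hE
  rcases hdec _ _ hc with h | h
  · exfalso
    obtain ⟨e, he⟩ := exists_ne (0 : E)
    apply he
    apply hι
    have : π (ι e) ∈ LinearMap.range π := ⟨_, rfl⟩
    rw [h, Submodule.mem_bot] at this
    have h2 : π (ι e) = ι e := by
      change ι (r (ι e)) = ι e
      rw [hrι]
    rw [map_zero, ← h2, this]
  · intro e
    refine ⟨r e, ?_⟩
    have h1 : e - ι (r e) ∈ LinearMap.ker π := by
      rw [LinearMap.mem_ker, map_sub]
      change ι (r e) - ι (r (ι (r e))) = 0
      rw [hrι, sub_self]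
    rw [h, Submodule.mem_bot, sub_eq_zero] at h1
    exact h1.symm

/-- Over a Noetherian ring, an essential extension of `κ(p)` is `p`-power torsion. -/
lemma isPowerTorsion_of_essential [IsNoetherianRing R] (hg : InjHull.IsEssentialInj g) :
    LocCoh.IsPowerTorsion p E := by
  intro x
  set J : Ideal R := LinearMap.ker (LinearMap.toSpanSingleton R E x) with hJ
  have hmem : ∀ r : R, r ∈ J ↔ r • x = 0 := fun r => by
    rw [hJ, LinearMap.mem_ker, LinearMap.toSpanSingleton_apply]
  suffices h : p ≤ J.radical by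
    obtain ⟨n, hn⟩ := Ideal.exists_pow_le_of_le_radical_of_fg h (IsNoetherian.noetherian _)
    exact ⟨n, fun a ha => (hmem a).1 (hn ha)⟩
  intro a ha
  by_contra hna
  have hne : ∀ n, a ^ n • x ≠ 0 := fun n h => hna ⟨n, (hmem _).2 h⟩
  let chain : ℕ →o Ideal R :=
    ⟨fun n => LinearMap.ker (LinearMap.toSpanSingleton R E (a ^ n • x)), by
      apply monotone_nat_of_le_succ
      intro n r hr
      rw [LinearMap.mem_ker, LinearMap.toSpanSingleton_apply] at hr ⊢
      rw [pow_succ', mul_smul, smul_comm, hr, smul_zero]⟩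
  obtain ⟨n, hn⟩ := monotone_stabilizes_iff_noetherian.2 inferInstance chain
  have hn1 := hn (n + 1) (Nat.le_succ n)
  have hspan : Submodule.span R {a ^ n • x} ≠ ⊥ :=
    fun h => hne n (Submodule.span_singleton_eq_bot.1 h)
  obtain ⟨y, hy, hy0⟩ := (Submodule.ne_bot_iff _).1 (hg.essential _ hspan)
  obtain ⟨hy1, hy2⟩ := Submodule.mem_inf.1 hy
  obtain ⟨r, rfl⟩ := Submodule.mem_span_singleton.1 hy1
  have h0 : a • (r • a ^ n • x) = 0 := smul_eq_zero_of_mem_range_res p hy2 ha
  have hr1 : r ∈ chain (n + 1) := by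
    show r ∈ LinearMap.ker (LinearMap.toSpanSingleton R E (a ^ (n + 1) • x))
    rw [LinearMap.mem_ker, LinearMap.toSpanSingleton_apply, pow_succ', mul_smul, smul_comm]
    exact h0
  rw [← hn1] at hr1
  apply hy0
  have : r ∈ LinearMap.ker (LinearMap.toSpanSingleton R E (a ^ n • x)) := hr1
  rwa [LinearMap.mem_ker, LinearMap.toSpanSingleton_apply] at this

end Groth.Agent.Lib.Helper23.RDInj
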