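import Mathlib
import Groth.Agent.Lib.Helper16.Sky4

/-!
# Helper23 — RDInj.SkyIso: a recognition criterion for skyscraper `O_X`-modules and their injectivity
-/

set_option autoImplicit false

open CategoryTheory CategoryTheory.Limits AlgebraicGeometry TopologicalSpace Opposite

namespace Groth.Agent.Lib.Helper23.RDInj

open Groth.Agent.Lib.Helper16 Groth.Agent.Lib.Helper16.Stk

universe u

variable {X : Scheme.{u}} (x : X)

/-- the canonical map `F ⟶ sky_x(F_x)`. -/
noncomputable def toSky (F : X.Modules) : F ⟶ skyMod x ((stk x).obj F) :=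
  (show SheafOfModules.Hom (R := X.ringCatSheaf) F (skyMod x ((stk x).obj F)) from
    ⟨skyUnit (R := X.presheaf) x F.val⟩)

lemma toSky_app_apply (F : X.Modules) (U : X.Opens) (m : Γ(F, U)) (h : PLift (x ∈ U)) :
    ((toSky x F).app U m : PLift (x ∈ U) → F.presheaf.stalk x) h =
      F.presheaf.germ U x h.down m := rfl

/-- recognition of skyscrapers: if the germ maps `F(U) → F_x` are bijective for `x ∈ U` and
`F(U) = 0` for `x ∉ U`, then `F` is the skyscraper at `x` on its stalk. -/
theorem isIso_toSky (F : X.Modules)
    (h1 : ∀ (U : X.Opens) (hx : x ∈ U), Function.Bijective (F.presheaf.germ U x hx))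
    (h0 : ∀ U : X.Opens, x ∉ U → Subsingleton Γ(F, U)) : IsIso (toSky x F) := by
  rw [Scheme.Modules.Hom.isIso_iff_isIso_app]
  intro U
  rw [ConcreteCategory.isIso_iff_bijective]
  by_cases hx : x ∈ U
  · constructor
    · intro m m' hmm
      apply (h1 U hx).1
      have := congrFun hmm ⟨hx⟩
      exact this
    · intro f
      obtain ⟨m, hm⟩ := (h1 U hx).2 (f ⟨hx⟩)
      refine ⟨m, ?_⟩
      funext h
      exact hm
  · haveI := h0 U hx
    constructor
    · intro m m' _
      exact Subsingleton.elim _ _
    · intro f
      refine ⟨0, ?_⟩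
      funext h
      exact absurd h.down hx

/-- the skyscraper functor preserves injectives. -/
theorem injective_skyMod (N : ModuleCat.{u} (X.presheaf.stalk x)) [Injective N] :
    Injective (skyMod x N) :=
  Injective.injective_of_adjoint (stkSkyAdj x) N

/-- an `O_X`-module satisfying the recognition criterion for skyscrapers with injective stalk is
injective. -/
theorem injective_of_sky (F : X.Modules)
    (h1 : ∀ (U : X.Opens) (hx : x ∈ U), Function.Bijective (F.presheaf.germ U x hx))
    (h0 : ∀ U : X.Opens, x ∉ U → Subsingleton Γ(F, U))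
    (hinj : Module.Injective (X.presheaf.stalk x) (F.presheaf.stalk x)) : Injective F := by
  haveI := isIso_toSky x F h1 h0
  haveI : Injective ((stk x).obj F) := Module.injective_object_of_injective_module _ _
  haveI := injective_skyMod x ((stk x).obj F)
  exact Injective.of_iso (asIso (toSky x F)).symm inferInstance

end Groth.Agent.Lib.Helper23.RDInj
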