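import Mathlib
import Groth.Prelude.Def_Wider

/-!
# Helper23 — RDInj.TildeSupp: sections of `M~` over an open on which all localizations of `M` vanish
-/

set_option autoImplicit false

open CategoryTheory CategoryTheory.Limits AlgebraicGeometry TopologicalSpace Opposite

namespace Groth.Agent.Lib.Helper23.RDInj

universe u

variable {R : CommRingCat.{u}} (M : ModuleCat.{u} R)

/-- if every element of `M` is killed by an element outside `p`, the stalk of `M~` at `p` vanishes. -/
theorem subsingleton_stalk_tilde (p : PrimeSpectrum.Top R)
    (h : ∀ m : M, ∃ r ∈ p.asIdeal.primeCompl, r • m = 0) :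
    Subsingleton ((tilde M).presheaf.stalk p) :=
  (IsLocalizedModule.subsingleton_iff p.asIdeal.primeCompl (tilde.toStalk M p).hom).2 h

/-- sections of `M~` over an open all of whose points have vanishing localization are zero. -/
theorem subsingleton_sections_tilde (W : (Spec R).Opens)
    (h : ∀ p : PrimeSpectrum.Top R, p ∈ W → ∀ m : M, ∃ r ∈ p.asIdeal.primeCompl, r • m = 0) :
    Subsingleton ((tilde M).presheaf.obj (op W)) := by
  refine ⟨fun s t => ?_⟩
  have hsh : TopCat.Presheaf.IsSheaf (tilde M).presheaf := (tilde M).isSheaf
  refine TopCat.Presheaf.section_ext ⟨(tilde M).presheaf, hsh⟩ W s t ?_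
  intro p hp
  haveI := subsingleton_stalk_tilde M p (h p hp)
  exact Subsingleton.elim _ _

end Groth.Agent.Lib.Helper23.RDInj
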