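import Mathlib
import Groth.Agent.Lib.Helper23.RDInj.SkyIso
import Groth.Agent.Lib.Helper23.RDInj.TildeSupp

/-!
# Helper23 — RDInj.TildeSky: `M~` is a skyscraper at `p` when the elements outside `p` act bijectively
on `M` and `M` is `p`-power torsion
-/

set_option autoImplicit false

open CategoryTheory CategoryTheory.Limits AlgebraicGeometry TopologicalSpace Opposite

namespace Groth.Agent.Lib.Helper23.RDInj

universe u

variable {R : CommRingCat.{u}} (M : ModuleCat.{u} R) (x : PrimeSpectrum.Top R)

/-- the germ of a global section coming from `M`. -/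
lemma germ_toOpen (U : (Spec R).Opens) (y : PrimeSpectrum.Top R) (hy : y ∈ U) (m : M) :
    (tilde M).presheaf.germ U y hy ((tilde.toOpen M U).hom m) = (tilde.toStalk M y).hom m := by
  have h1 : (tilde.toOpen M U).hom m =
      (tilde M).presheaf.map (homOfLE (le_top : U ≤ ⊤)).op ((tilde.toOpen M ⊤).hom m) := rfl
  rw [h1]
  exact TopCat.Presheaf.germ_res_apply (tilde M).presheaf (homOfLE (le_top : U ≤ ⊤)) y hy _

/-- if the elements outside `y` act bijectively on `M`, then `M → M_y` is bijective. -/
lemma toStalk_bijective (y : PrimeSpectrum.Top R)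
    (h : ∀ s : R, s ∉ y.asIdeal → Function.Bijective (fun m : M => s • m)) :
    Function.Bijective (tilde.toStalk M y).hom := by
  constructor
  · rw [← LinearMap.ker_eq_bot, LinearMap.ker_eq_bot']
    intro m hm
    obtain ⟨s, hs⟩ := (IsLocalizedModule.eq_zero_iff y.asIdeal.primeCompl (tilde.toStalk M y).hom).1 hm
    apply (h s.1 s.2).1
    show s.1 • m = s.1 • (0 : M)
    rw [smul_zero]
    exact hs
  · intro μ
    obtain ⟨⟨m, s⟩, hms⟩ := IsLocalizedModule.surj y.asIdeal.primeCompl (tilde.toStalk M y).hom μ
    obtain ⟨m', hm'⟩ := (h s.1 s.2).2 m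
    refine ⟨m', ?_⟩
    have hu := IsLocalizedModule.map_units (tilde.toStalk M y).hom s
    apply ((Module.End.isUnit_iff _).1 hu).1
    change s.1 • (tilde.toStalk M y).hom m' = s.1 • μ
    rw [← map_smul]
    have : s.1 • m' = m := hm'
    rw [this]
    exact hms.symm

variable (h1 : ∀ s : R, s ∉ x.asIdeal → Function.Bijective (fun m : M => s • m))
  (h2 : LocCoh.IsPowerTorsion x.asIdeal M)

include h2 in
/-- localizations of a `p`-power torsion module away from `V(p)` vanish. -/
lemma exists_smul_eq_zero_of_not_le (y : PrimeSpectrum.Top R) (hxy : ¬ x.asIdeal ≤ y.asIdeal) (m : M) :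
    ∃ r ∈ y.asIdeal.primeCompl, r • m = 0 := by
  obtain ⟨f, hfx, hfy⟩ := SetLike.not_le_iff_exists.1 hxy
  obtain ⟨k, hk⟩ := h2 m
  exact ⟨f ^ k, y.asIdeal.primeCompl.pow_mem hfy k, hk _ (Ideal.pow_mem_pow hfx k)⟩

include h2 in
/-- sections of `M~` away from `x` vanish. -/
theorem subsingleton_tilde_of_not_mem (U : (Spec R).Opens) (hx : x ∉ U) :
    Subsingleton Γ(tilde M, U) := by
  refine subsingleton_sections_tilde M U ?_
  intro y hy m
  refine exists_smul_eq_zero_of_not_le M x h2 y ?_ m
  intro hle
  apply hx
  have hsp : x ⤳ y := (PrimeSpectrum.le_iff_specializes x y).1 hle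
  exact hsp.mem_open U.2 hy

include h1 h2 in
/-- the germ maps of `M~` at `x` are bijective. -/
theorem germ_tilde_bijective (U : (Spec R).Opens) (hx : x ∈ U) :
    Function.Bijective ((tilde M).presheaf.germ U x hx) := by
  have hbx := toStalk_bijective M x h1
  constructor
  · intro s t hst
    have hsh : TopCat.Presheaf.IsSheaf (tilde M).presheaf := (tilde M).isSheaf
    refine TopCat.Presheaf.section_ext ⟨(tilde M).presheaf, hsh⟩ U s t ?_
    intro y hy
    by_cases hle : x.asIdeal ≤ y.asIdeal
    · have hsp : x ⤳ y := (PrimeSpectrum.le_iff_specializes x y).1 hle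
      have hby := toStalk_bijective M y (fun s hs => h1 s (fun hsx => hs (hle hsx)))
      -- the specialization map is injective
      have hspec : ∀ m : M, (tilde M).presheaf.stalkSpecializes hsp ((tilde.toStalk M y).hom m) =
          (tilde.toStalk M x).hom m := by
        intro m
        rw [← germ_toOpen M ⊤ y trivial m, ← germ_toOpen M ⊤ x trivial m]
        exact TopCat.Presheaf.germ_stalkSpecializes_apply (tilde M).presheaf (U := ⊤) trivial hsp _
      have hinj : Function.Injective ((tilde M).presheaf.stalkSpecializes hsp) := by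
        intro a b hab
        obtain ⟨m, rfl⟩ := hby.2 a
        obtain ⟨m', rfl⟩ := hby.2 b
        rw [hspec, hspec] at hab
        rw [hbx.1 hab]
      apply hinj
      have e1 := TopCat.Presheaf.germ_stalkSpecializes_apply (tilde M).presheaf hy hsp s
      have e2 := TopCat.Presheaf.germ_stalkSpecializes_apply (tilde M).presheaf hy hsp t
      rw [e1, e2]
      exact hst
    · have := subsingleton_stalk_tilde M y (exists_smul_eq_zero_of_not_le M x h2 y hle)
      exact Subsingleton.elim _ _
  · intro μ
    obtain ⟨m, rfl⟩ := hbx.2 μ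
    exact ⟨(tilde.toOpen M U).hom m, germ_toOpen M U x hx m⟩

end Groth.Agent.Lib.Helper23.RDInj
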