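import Mathlib
import Groth.Agent.S0306
import Groth.Agent.S0307
import Groth.Agent.S9498
import Groth.Agent.Lib.Helper23.RDInj.TildeSky
import Groth.Agent.Lib.Helper23.RDInj.IndecAlg
import Groth.Agent.Lib.Helper23.NoethObj.CoprodInj

/-!
# Helper23 — RDInj.TildeInj: over a Noetherian ring `R`, the sheaf `M~` of an injective `R`-module `M`
is an injective `O_{Spec R}`-module (RD II.7.14)
-/

set_option autoImplicit false
set_option linter.style.haveILetI false

open CategoryTheory CategoryTheory.Limits AlgebraicGeometry TopologicalSpace Opposite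

namespace Groth.Agent.Lib.Helper23.RDInj

universe u

variable {R : CommRingCat.{u}} [IsNoetherianRing R]

/-- the stalk of `M~` at a prime is injective over the local ring, if `M` is injective. -/
theorem injective_stalk_tilde (M : ModuleCat.{u} R) (hM : Module.Injective R M)
    (x : PrimeSpectrum.Top R) :
    Module.Injective ((Spec R).presheaf.stalk x) ((tilde M).presheaf.stalk x) := by
  letI k : Algebra R ((Spec R).presheaf.stalk x) := StructureSheaf.stalkAlgebra R x
  haveI : IsLocalization.AtPrime ((Spec R).presheaf.stalk x) x.asIdeal :=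
    StructureSheaf.IsLocalization.to_stalk R x
  haveI : IsScalarTower R ((Spec R).presheaf.stalk x) ((tilde M).presheaf.stalk x) :=
    .of_algebraMap_smul fun _ _ ↦ rfl
  exact Module.injective_of_isLocalizedModule x.asIdeal.primeCompl (tilde.toStalk M x).hom

/-- `E~` is injective for an indecomposable injective hull `E` of `κ(p)`. -/
theorem injective_tilde_of_hull (M : ModuleCat.{u} R) (p : Ideal R) [p.IsPrime]
    (g : p.ResidueField →ₗ[R] M) (hg : InjHull.IsInjectiveHull g)
    (hM : InjHull.IsIndecomposable R M) : Injective (tilde M) := by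
  let x : PrimeSpectrum.Top R := ⟨p, inferInstance⟩
  have h1 : ∀ s : R, s ∉ x.asIdeal → Function.Bijective (fun m : M => s • m) :=
    fun s hs => smul_bijective_of_hull p hg hM hs
  have h2 : LocCoh.IsPowerTorsion x.asIdeal M := isPowerTorsion_of_essential p hg.toIsEssentialInj
  exact injective_of_sky (X := Spec R) x (tilde M) (germ_tilde_bijective M x h1 h2)
    (subsingleton_tilde_of_not_mem M x h2) (injective_stalk_tilde M hg.isInjective x)

/-- **RD II.7.14**: `M~` is an injective `O`-module for `M` injective over a Noetherian ring. -/
theorem injective_tilde (M : ModuleCat.{u} R) (hM : Module.Injective R M) : Injective (tilde M) := by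
  classical
  obtain ⟨ι, E, hint, hE⟩ := Groth.Agent.S0307.result R M hM
  let Z : ι → ModuleCat.{u} R := fun i => ModuleCat.of R (E i)
  have hZ : ∀ i, Injective ((tilde.functor R).obj (Z i)) := by
    intro i
    obtain ⟨p, hp, g, hg⟩ := Groth.Agent.S0306.result R (E i) (hE i).1 (hE i).2
    haveI := hp
    exact injective_tilde_of_hull (Z i) p g hg (hE i).1
  haveI : PreservesColimitsOfSize.{u, u} (tilde.functor R) :=
    (tilde.adjunction (R := R)).leftAdjoint_preservesColimits
  have hc := isColimitCofanMkObjOfIsColimit (tilde.functor R) Z _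
    (ModuleCat.coproductCoconeIsColimit Z)
  haveI : IsLocallyNoetherian (Spec R) := inferInstance
  have hinj := NoethObj.injective_coproduct (X := Spec R)
    (fun i => (tilde.functor R).obj (Z i)) hZ hc
  let e : ModuleCat.of R (DirectSum ι fun i => Z i) ≅ M :=
    (LinearEquiv.ofBijective (DirectSum.coeLinearMap E) hint).toModuleIso
  exact Injective.of_iso ((tilde.functor R).mapIso e) hinj

end Groth.Agent.Lib.Helper23.RDInj
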