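import Mathlib
import Groth.Agent.S0299
import Groth.Agent.Lib.Helper17.CohKer
import Groth.Agent.Lib.Helper23.RDInj.EssTilde
import Groth.Agent.Lib.Helper23.RDInj.EssRestrict
import Groth.Agent.Lib.Helper23.RDInj.TildeInj
import Groth.Agent.Lib.Helper23.RDInj.SectionsInj

/-!
# Helper23 — RDInj.HullQCoh: on a locally Noetherian scheme the injective hull (in the category of all
`O_X`-modules) of a quasi-coherent module is quasi-coherent; injectives of `QCoh(X)` are injective
`O_X`-modules
-/

set_option autoImplicit false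
set_option linter.style.haveILetI false
set_option backward.isDefEq.respectTransparency.types false

open CategoryTheory CategoryTheory.Limits AlgebraicGeometry TopologicalSpace Opposite

namespace Groth.Agent.Lib.Helper23.RDInj

universe u

lemma essElt_of_isEssentialInj {A : Type u} [CommRing A] {M N : Type u} [AddCommGroup M]
    [Module A M] [AddCommGroup N] [Module A N] (i : M →ₗ[A] N) (hi : InjHull.IsEssentialInj i) :
    EssElt i := by
  intro n hn
  have h1 : Submodule.span A {n} ≠ ⊥ := by
    intro h
    apply hn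
    have : n ∈ Submodule.span A {n} := Submodule.mem_span_singleton_self n
    rw [h, Submodule.mem_bot] at this
    exact this
  have h2 := hi.essential _ h1
  obtain ⟨w, hw, hw0⟩ := Submodule.exists_mem_ne_zero_of_ne_bot h2
  obtain ⟨hw1, hw2⟩ := hw
  obtain ⟨a, rfl⟩ := Submodule.mem_span_singleton.1 hw1
  exact ⟨a, hw0, hw2⟩

lemma isQuasicoherent_of_essMono_spec_aux {R : CommRingCat.{u}} [IsNoetherianRing R]
    (M : ModuleCat.{u} R) {Jf Ef : (Spec R).Modules} (e : tilde M ≅ Jf) (mf : Jf ⟶ Ef)
    (hmf : EssMono mf) (hEf : Injective Ef) : Ef.IsQuasicoherent := by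
  obtain ⟨N', hN1, hN2, i, hi⟩ := Groth.Agent.S0299.result R M
  let N : ModuleCat.{u} R := ModuleCat.of R N'
  let iN : M ⟶ N := ModuleCat.ofHom i
  haveI : Injective (tilde N) := injective_tilde N hi.isInjective
  have ha : EssMono (tilde.map iN) :=
    essMono_tilde_map iN hi.injective (essElt_of_isEssentialInj i hi.toIsEssentialInj)
  have hb : EssMono (e.hom ≫ mf) := hmf.of_iso_comp e
  haveI := ha.1
  let ψ : tilde N ⟶ Ef := Injective.factorThru (e.hom ≫ mf) (tilde.map iN)
  have hψ : tilde.map iN ≫ ψ = e.hom ≫ mf := Injective.comp_factorThru _ _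
  haveI hψiso : IsIso ψ := isIso_of_essMono ha hb ψ hψ
  let eψ : tilde N ≅ Ef := asIso ψ
  exact (SheafOfModules.isQuasicoherent (Spec R).ringCatSheaf).prop_of_iso eψ
    (inferInstanceAs (tilde N).IsQuasicoherent)

/-- on the spectrum of a Noetherian ring, an injective essential extension of a quasi-coherent
module is quasi-coherent. -/
theorem isQuasicoherent_of_essMono_spec {R : CommRingCat.{u}} [IsNoetherianRing R]
    {Jf Ef : (Spec R).Modules} [Jf.IsQuasicoherent] (mf : Jf ⟶ Ef) (hmf : EssMono mf)
    (hEf : Injective Ef) : Ef.IsQuasicoherent := by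
  haveI hiso : IsIso Jf.fromTildeΓ := (isQuasicoherent_iff_isIso_fromTildeΓ Jf).1 inferInstance
  let e := asIso Jf.fromTildeΓ
  exact isQuasicoherent_of_essMono_spec_aux (moduleSpecΓFunctor.obj Jf) e mf hmf hEf

variable {X : Scheme.{u}} [IsLocallyNoetherian X]

/-- the restriction to an affine open of an injective essential extension of a quasi-coherent module
is quasi-coherent. -/
theorem isQuasicoherent_restrict_of_essMono {J E : X.Modules} [J.IsQuasicoherent] (m : J ⟶ E)
    (hm : EssMono m) (hE : Injective E) {V : X.Opens} (hV : IsAffineOpen V) :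
    ((Scheme.Modules.restrictFunctor hV.fromSpec).obj E).IsQuasicoherent := by
  haveI : IsNoetherianRing Γ(X, V) := IsLocallyNoetherian.component_noetherian ⟨V, hV⟩
  let Jf : (Spec Γ(X, V)).Modules := J.restrict hV.fromSpec
  let Ef : (Spec Γ(X, V)).Modules := E.restrict hV.fromSpec
  haveI : Jf.IsQuasicoherent := Scheme.Modules.isQuasicoherent_restrictFunctor hV.fromSpec J
  have hEf : Injective Ef :=
    Groth.Agent.Lib.Helper26.LocInj.injective_restrictFunctor hV.fromSpec E hE
  have hmf : EssMono ((Scheme.Modules.restrictFunctor hV.fromSpec).map m) :=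
    essMono_restrict hV.fromSpec m hm
  exact isQuasicoherent_of_essMono_spec (Jf := Jf) (Ef := Ef)
    ((Scheme.Modules.restrictFunctor hV.fromSpec).map m) hmf hEf

/-- **the injective hull of a quasi-coherent module on a locally Noetherian scheme is
quasi-coherent.** -/
theorem isQuasicoherent_of_essMono {J E : X.Modules} [J.IsQuasicoherent] (m : J ⟶ E)
    (hm : EssMono m) (hE : Injective E) : E.IsQuasicoherent := by
  exact Groth.Agent.Lib.Helper17.CohKer.isQuasicoherent_of_restrict_fromSpec E
    (fun U : X.affineOpens => U.1) (iSup_affineOpens_eq_top X) (fun U => U.2)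
    (fun U => isQuasicoherent_restrict_of_essMono m hm hE U.2)

/-- **S7769**: on a locally Noetherian scheme, injective objects of `QCoh(X)` are injective
`O_X`-modules. -/
theorem injective_of_injective_qcoh
    (J : ObjectProperty.FullSubcategory (fun M : X.Modules => M.IsQuasicoherent))
    (hJ : Injective J) : Injective J.obj := by
  haveI : J.obj.IsQuasicoherent := J.property
  obtain ⟨E, m, hE, hm⟩ := exists_essMono_injective.{u} J.obj
  have hEq : E.IsQuasicoherent := isQuasicoherent_of_essMono m hm hE
  let E' : ObjectProperty.FullSubcategory (fun M : X.Modules => M.IsQuasicoherent) := ⟨E, hEq⟩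
  let m' : J ⟶ E' := ObjectProperty.homMk m
  haveI := hm.1
  haveI : Mono m' := by
    apply (ObjectProperty.ι (fun M : X.Modules => M.IsQuasicoherent)).mono_of_mono_map
    exact hm.1
  let ρ : E' ⟶ J := Injective.factorThru (𝟙 J) m'
  have hρ : m' ≫ ρ = 𝟙 J := Injective.comp_factorThru (𝟙 J) m'
  have hρ' : m ≫ ρ.hom = 𝟙 J.obj := congrArg InducedCategory.Hom.hom hρ
  exact Retract.injective (Y := E) ⟨m, ρ.hom, hρ'⟩

end Groth.Agent.Lib.Helper23.RDInj
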