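import Mathlib
import Groth.Agent.Lib.Helper23.RDInj.ExtOne
import Groth.Agent.Lib.Helper23.RDInj.HullQCoh
import Groth.Agent.Lib.Helper23.ExtZ.Unit
import Groth.Agent.Lib.Helper6.RDShift
import Groth.Agent.Lib.Helper6.DevRed
import Groth.Agent.Lib.Helper17.CohKer
import Groth.Agent.S2250

/-!
# Helper23 — RDInj.ExtOneMain: on a locally Noetherian scheme, a quasi-coherent module `F` with
`ℰxt¹(G, F) = 0` for all coherent `G` is injective
-/

set_option autoImplicit false
set_option linter.style.haveILetI false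
set_option backward.isDefEq.respectTransparency.types false

open CategoryTheory CategoryTheory.Limits AlgebraicGeometry TopologicalSpace Opposite

namespace Groth.Agent.Lib.Helper23.RDInj

open Groth.Agent.Lib.Helper16.Stk
open Groth.Agent.Lib.Helper28 Groth.Agent.Lib.Helper28.QCohLoc Groth.Agent.Lib.Helper28.HomMod
  Groth.Agent.Lib.Helper6.HomAdj

universe v v' u u'

section Abstract

variable {A : Type u} {B : Type u'} [Category.{v} A] [Category.{v'} B] [Abelian A] [Abelian B]
  [EnoughInjectives A]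

/-- dimension shifting: if `R¹T` vanishes on the kernel of a short exact sequence, `T` of the
epimorphism is an epimorphism (for `T` left exact). -/
theorem epi_map_of_isZero_rightDerived_one (T : A ⥤ B) [T.Additive] [PreservesFiniteLimits T]
    {S : ShortComplex A} (hS : S.ShortExact) (h : IsZero ((T.rightDerived 1).obj S.X₁)) :
    Epi (T.map S.g) := by
  obtain ⟨δ, w₀, w₁, w₂, e₀, e₁, e₂⟩ := Groth.Agent.Lib.Helper6.RDShift.rightDerived_les T hS 0
  have hδ : δ = 0 := h.eq_of_tgt _ _
  have hepi : Epi ((T.rightDerived 0).map S.g) :=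
    (ShortComplex.exact_iff_epi (ShortComplex.mk _ _ w₁) hδ).1 e₁
  have nat := (T.rightDerivedZeroIsoSelf).hom.naturality S.g
  have h3 : T.map S.g = (T.rightDerivedZeroIsoSelf).inv.app S.X₂ ≫ (T.rightDerived 0).map S.g ≫
      (T.rightDerivedZeroIsoSelf).hom.app S.X₃ := by
    rw [nat, Iso.inv_hom_id_app_assoc]
  rw [h3]
  infer_instance

end Abstract

section Scheme

variable {X : Scheme.{u}}

/-- the vanishing of `R¹ Hom(G, -)` at `F` implies that `Hom(G, E) ⟶ Hom(G, Q)` is an epimorphism
for a short exact sequence `0 ⟶ F ⟶ E ⟶ Q ⟶ 0`. -/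
theorem epi_homModF_map_of_isZero {S : ShortComplex X.Modules} (hS : S.ShortExact) (G : X.Modules)
    [DCoh.HasSheafHom G] [(DCoh.sheafHom G).Additive]
    (h : IsZero (((DCoh.sheafHom G).rightDerived 1).obj S.X₁)) :
    Epi ((homModF G).map S.g) := by
  haveI : PreservesFiniteLimits (DCoh.sheafHom G) :=
    ⟨fun J _ _ => (DCoh.sheafHomAdj G).rightAdjoint_preservesLimits.preservesLimitsOfShape⟩
  haveI : Epi ((DCoh.sheafHom G).map S.g) := epi_map_of_isZero_rightDerived_one _ hS h
  let e : DCoh.sheafHom G ≅ homModF G := (DCoh.sheafHomAdj G).rightAdjointUniq (adj G)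
  have nat := e.hom.naturality S.g
  have h3 : (homModF G).map S.g = e.inv.app S.X₂ ≫ (DCoh.sheafHom G).map S.g ≫ e.hom.app S.X₃ := by
    rw [nat, Iso.inv_hom_id_app_assoc]
  rw [h3]
  infer_instance

end Scheme

section Main

variable {X : Scheme.{u}} [IsLocallyNoetherian X]

omit [IsLocallyNoetherian X] in
/-- a nonzero module has a nonzero section. -/
lemma exists_section_ne_zero (Q : X.Modules) (hQ : ¬ IsZero Q) :
    ∃ (W : X.Opens) (q : Γ(Q, W)), q ≠ 0 := by
  by_contra h
  push_neg at h
  exact hQ (isZero_of_subsingleton_sections Q fun T => ⟨fun a b => by rw [h T a, h T b]⟩)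

/-- **a nonzero quasi-coherent module on a locally Noetherian scheme has a nonzero coherent
submodule.** -/
theorem exists_coherent_sub (Q : X.Modules) [Q.IsQuasicoherent] (hQ : ¬ IsZero Q) :
    ∃ (G : X.Modules) (i : G ⟶ Q), Mono i ∧ Coh.IsCoh G ∧ ¬ IsZero G := by
  obtain ⟨W, q, hq⟩ := exists_section_ne_zero Q hQ
  let R := Scheme.Modules.restrictFunctor W.ι
  let N : (W : Scheme.{u}).Modules := R.obj Q
  let σ : Coh.structureModule (W : Scheme.{u}) ⟶ N :=
    (Groth.Agent.Lib.Helper23.ExtZ.secEquiv N).symm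
      ((Groth.Agent.Lib.Helper23.ExtZ.topEquiv W Q).symm q)
  have hσ : σ ≠ 0 := by
    intro h0
    have h1 : Groth.Agent.Lib.Helper23.ExtZ.secEquiv N σ =
        (Groth.Agent.Lib.Helper23.ExtZ.topEquiv W Q).symm q := Equiv.apply_symm_apply _ _
    have h2 : Groth.Agent.Lib.Helper23.ExtZ.secEquiv N σ = 0 := by
      rw [h0]
      rfl
    have h3 : q = Groth.Agent.Lib.Helper23.ExtZ.topEquiv W Q 0 := by
      rw [← h2, h1, Equiv.apply_symm_apply]
    apply hq
    rw [h3]
    exact res_zero Q _
  -- the image of `σ`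
  haveI : N.IsQuasicoherent := inferInstanceAs ((Q.restrict W.ι).IsQuasicoherent)
  have hOc : Coh.IsCoh (Coh.structureModule (W : Scheme.{u})) :=
    Groth.Agent.Lib.Helper6.DevRed.isCoh_structureModule
  haveI : (Coh.structureModule (W : Scheme.{u})).IsQuasicoherent := hOc.1
  haveI : (cokernel σ).IsQuasicoherent :=
    Groth.Agent.Lib.Helper17.CohKer.isQuasicoherent_cokernel σ
  let G₀ : (W : Scheme.{u}).Modules := Abelian.image σ
  let i₀ : G₀ ⟶ N := Abelian.image.ι σ
  haveI : Mono i₀ := inferInstanceAs (Mono (Abelian.image.ι σ))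
  have hG₀q : G₀.IsQuasicoherent :=
    Groth.Agent.Lib.Helper17.CohKer.isQuasicoherent_kernel (cokernel.π σ)
  have hG₀ft : CohB1.IsFT G₀ := by
    haveI : SheafOfModules.IsFiniteType.{u} (R := (W : Scheme.{u}).ringCatSheaf)
      (Coh.structureModule (W : Scheme.{u})) := hOc.2
    exact Groth.Agent.Lib.Helper17.CohKer.isFiniteType_of_epi (Abelian.factorThruImage σ)
  have hX : ∀ x : X, ∃ U : X.Opens, x ∈ U ∧ TopologicalSpace.NoetherianSpace (U : Set X) :=
    fun x => by
      obtain ⟨V, hV, hxV, -⟩ := Opens.isBasis_iff_nbhd.mp X.isBasis_affineOpens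
        (show x ∈ (⊤ : X.Opens) from trivial)
      haveI : IsNoetherianRing Γ(X, V) := IsLocallyNoetherian.component_noetherian ⟨V, hV⟩
      exact ⟨V, hxV, noetherianSpace_of_isAffineOpen V hV⟩
  haveI : Coh.IsQCoh Q := ‹Q.IsQuasicoherent›
  haveI : Coh.IsQCoh G₀ := hG₀q
  obtain ⟨G', i', e, hi', hG'q, hG'ft, -⟩ := Groth.Agent.S2250.result hX W Q G₀ i₀ hG₀ft
  refine ⟨G', i', hi', ⟨hG'q, hG'ft⟩, fun hz => hσ ?_⟩
  have h1 : IsZero (R.obj G') := R.map_isZero hz
  have h2 : IsZero G₀ := h1.of_iso e.symm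
  have h3 : Abelian.factorThruImage σ = 0 := h2.eq_of_tgt _ _
  rw [← Abelian.image.fac σ, h3, zero_comp]

/-- **(iv) ⟹ (i)**: on a locally Noetherian scheme, a quasi-coherent module `F` with
`ℰxt¹(G, F) = 0` for all coherent `G` is injective. -/
theorem injective_of_sheafExt_one_vanishing (F : X.Modules) [F.IsQuasicoherent]
    (H : ∀ (G : X.Modules) [DCoh.HasSheafHom G] [(DCoh.sheafHom G).Additive],
      Coh.IsCoh G → IsZero (((DCoh.sheafHom G).rightDerived 1).obj F)) : Injective F := by
  obtain ⟨E, m, hE, hm⟩ := exists_essMono_injective.{u} F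
  haveI := hm.1
  haveI hEq : E.IsQuasicoherent := isQuasicoherent_of_essMono m hm hE
  haveI : (cokernel m).IsQuasicoherent :=
    Groth.Agent.Lib.Helper17.CohKer.isQuasicoherent_cokernel m
  let S : ShortComplex X.Modules := ShortComplex.mk m (cokernel.π m) (cokernel.condition m)
  have hS : S.ShortExact :=
    { exact := ShortComplex.exact_of_g_is_cokernel _ (cokernelIsCokernel m)
      mono_f := hm.1
      epi_g := inferInstanceAs (Epi (cokernel.π m)) }
  have hQ : IsZero (cokernel m) := by
    by_contra hQ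
    obtain ⟨G, i, hi, hG, hGnz⟩ := exists_coherent_sub (cokernel m) hQ
    haveI : DCoh.HasSheafHom G := hasSheafHom G
    haveI : (DCoh.sheafHom G).Additive := (DCoh.sheafHomAdj G).right_adjoint_additive
    have hepi : Epi ((homModF G).map (cokernel.π m)) :=
      epi_homModF_map_of_isZero hS G (H G hG)
    exact hGnz (isZero_of_epi_homModF_map m hm (cokernel.π m) (cokernel.condition m) i hepi)
  haveI : Epi m := Preadditive.epi_of_cokernel_zero (hQ.eq_of_tgt _ _)
  haveI : IsIso m := isIso_of_mono_of_epi m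
  exact Injective.of_iso (asIso m).symm hE

end Main

end Groth.Agent.Lib.Helper23.RDInj
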