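import Mathlib

/-!
# Helper23 — RDInj.PowTorsion: over a Noetherian ring, the `a`-power torsion submodule of an injective
module is injective (Artin–Rees + Baer)
-/

set_option autoImplicit false
set_option linter.style.haveILetI false

namespace Groth.Agent.Lib.Helper23.RDInj

universe u

variable {A : Type u} [CommRing A] (a : Ideal A) (E : Type u) [AddCommGroup E] [Module A E]

/-- the `a`-power torsion submodule. -/
def powTorsion : Submodule A E where
  carrier := {e | ∃ n : ℕ, ∀ r ∈ a ^ n, r • e = 0}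
  zero_mem' := ⟨0, fun r _ => smul_zero r⟩
  add_mem' := by
    rintro x y ⟨n, hn⟩ ⟨m, hm⟩
    refine ⟨max n m, fun r hr => ?_⟩
    rw [smul_add, hn r (Ideal.pow_le_pow_right (le_max_left n m) hr),
      hm r (Ideal.pow_le_pow_right (le_max_right n m) hr), add_zero]
  smul_mem' := by
    rintro c x ⟨n, hn⟩
    exact ⟨n, fun r hr => by rw [smul_comm, hn r hr, smul_zero]⟩

lemma mem_powTorsion (e : E) : e ∈ powTorsion a E ↔ ∃ n : ℕ, ∀ r ∈ a ^ n, r • e = 0 := Iff.rfl

variable [IsNoetherianRing A]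

lemma exists_pow_kill (J : Ideal A) (g : J →ₗ[A] powTorsion a E) :
    ∃ n : ℕ, ∀ (y : J), ∀ r ∈ a ^ n, r • (g y : E) = 0 := by
  classical
  obtain ⟨T, hT⟩ := (Module.Finite.fg_top : (⊤ : Submodule A J).FG)
  choose n hn using fun t : J => (g t).2
  refine ⟨T.sup n, fun y r hr => ?_⟩
  have hy : y ∈ Submodule.span A (T : Set J) := hT ▸ Submodule.mem_top
  induction hy using Submodule.span_induction with
  | mem t ht => exact hn t r (Ideal.pow_le_pow_right (Finset.le_sup ht) hr)
  | zero => simp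
  | add x y _ _ hx hy => rw [map_add, Submodule.coe_add, smul_add, hx, hy, add_zero]
  | smul c x _ hx => rw [map_smul, Submodule.coe_smul, smul_comm, hx, smul_zero]

/-- the `a`-power torsion of an injective module over a Noetherian ring is injective. -/
theorem injective_powTorsion [Module.Injective A E] : Module.Injective A (powTorsion a E) := by
  apply Module.Baer.injective
  intro J g
  obtain ⟨n, hn⟩ := exists_pow_kill a E J g
  obtain ⟨k, hk⟩ := Ideal.exists_pow_inf_eq_pow_smul a (J : Submodule A A)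
  let g₀ : J →ₗ[A] E := (powTorsion a E).subtype.comp g
  -- the submodule of `A` of elements of `J` killed by `g`
  let K : Submodule A A := (LinearMap.ker g₀).map J.subtype
  have hK : a ^ n • (J : Submodule A A) ≤ K := by
    rw [Submodule.smul_le]
    intro r hr y hy
    refine ⟨r • ⟨y, hy⟩, ?_, rfl⟩
    change r • (⟨y, hy⟩ : J) ∈ LinearMap.ker g₀
    rw [LinearMap.mem_ker, map_smul]
    exact hn ⟨y, hy⟩ r hr
  have hkey : ∀ (x : A) (hx : x ∈ J), x ∈ a ^ (n + k) → g₀ ⟨x, hx⟩ = 0 := by
    intro x hx hxm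
    have h1 : x ∈ a ^ (n + k) • (⊤ : Submodule A A) ⊓ J := by
      refine ⟨?_, hx⟩
      rw [Ideal.smul_top_eq_map]
      simpa using hxm
    rw [hk (n + k) (by omega)] at h1
    have h2 : x ∈ a ^ n • (J : Submodule A A) := by
      have : n + k - k = n := by omega
      rw [this] at h1
      exact Submodule.smul_mono le_rfl inf_le_right h1
    obtain ⟨y, hy, hyx⟩ := hK h2
    have : y = ⟨x, hx⟩ := Subtype.ext hyx
    rw [← this]
    exact hy
  let p : J →ₗ[A] (A ⧸ a ^ (n + k)) := (Submodule.mkQ (a ^ (n + k))).comp J.subtype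
  have hle : LinearMap.ker p ≤ LinearMap.ker g₀ := by
    intro y hy
    rw [LinearMap.mem_ker] at hy ⊢
    have h1 : (y : A) ∈ a ^ (n + k) := (Submodule.Quotient.mk_eq_zero _).1 hy
    exact hkey y.1 y.2 h1
  let ι : (J ⧸ LinearMap.ker p) →ₗ[A] (A ⧸ a ^ (n + k)) := (LinearMap.ker p).liftQ p le_rfl
  have hι : Function.Injective ι :=
    LinearMap.ker_eq_bot.1 (Submodule.ker_liftQ_eq_bot _ _ _ le_rfl)
  let g₁ : (J ⧸ LinearMap.ker p) →ₗ[A] E := (LinearMap.ker p).liftQ g₀ hle
  obtain ⟨h, hh⟩ := Module.Injective.extension_property A E _ _ ι hι g₁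
  let g' : A →ₗ[A] powTorsion a E :=
    (h.comp (Submodule.mkQ (a ^ (n + k)))).codRestrict (powTorsion a E) (fun y => by
      refine ⟨n + k, fun r hr => ?_⟩
      rw [← map_smul]
      have : r • y ∈ a ^ (n + k) := by
        rw [smul_eq_mul]
        exact Ideal.mul_mem_right _ _ hr
      have h0 : (Submodule.mkQ (a ^ (n + k))) (r • y) = 0 := by
        rw [Submodule.mkQ_apply]
        exact (Submodule.Quotient.mk_eq_zero _).2 this
      rw [LinearMap.comp_apply, h0, map_zero])
  refine ⟨g', fun x mem => ?_⟩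
  apply Subtype.ext
  change h (Submodule.mkQ (a ^ (n + k)) x) = g₀ ⟨x, mem⟩
  have h1 : Submodule.mkQ (a ^ (n + k)) x = ι (Submodule.Quotient.mk ⟨x, mem⟩) := by
    dsimp only [ι]
    rw [Submodule.liftQ_apply]
    rfl
  rw [h1]
  have h2 := LinearMap.congr_fun hh (Submodule.Quotient.mk ⟨x, mem⟩)
  rw [LinearMap.comp_apply] at h2
  rw [h2]
  dsimp only [g₁]
  rw [Submodule.liftQ_apply]

end Groth.Agent.Lib.Helper23.RDInj
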