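import Mathlib
import Groth.Agent.Lib.Helper17.FlatDict
import Groth.Agent.Lib.Helper29.FPDict
import Groth.Agent.Lib.Helper26.LocInj
import Groth.Agent.Lib.Helper23.RDInj.TildeInj

/-!
# Helper23 — RDInj.QCohInj: a quasi-coherent module with injective stalks on a locally Noetherian scheme
is an injective `O_X`-module
-/

set_option autoImplicit false
set_option linter.style.haveILetI false
set_option backward.isDefEq.respectTransparency.types false

open CategoryTheory CategoryTheory.Limits AlgebraicGeometry TopologicalSpace Opposite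

namespace Groth.Agent.Lib.Helper23.RDInj

open Groth.Agent.Lib.Helper17.ModStalk Groth.Agent.Lib.Helper17.FlatDict

universe u

variable {X : Scheme.{u}}

/-- sections over an affine open of a quasi-coherent module with injective stalks form an injective
module (Noetherian case). -/
theorem injective_sections_of_injective_stalks [IsLocallyNoetherian X] (F : X.Modules)
    [F.IsQuasicoherent] {U : X.Opens} (hU : IsAffineOpen U)
    (H : ∀ x ∈ U, Module.Injective (X.presheaf.stalk x) (F.presheaf.stalk x)) :
    Module.Injective Γ(X, U) Γ(F, U) := by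
  haveI : IsNoetherianRing Γ(X, U) := IsLocallyNoetherian.component_noetherian ⟨U, hU⟩
  let pt : ∀ (P : Ideal Γ(X, U)) [P.IsMaximal], X := fun P _ => hU.fromSpec ⟨P, inferInstance⟩
  have hpt : ∀ (P : Ideal Γ(X, U)) [P.IsMaximal], pt P ∈ U := fun P _ => by
    have : hU.fromSpec ⟨P, inferInstance⟩ ∈ Set.range hU.fromSpec := ⟨_, rfl⟩
    rw [hU.range_fromSpec] at this
    exact this
  letI aB : ∀ (P : Ideal Γ(X, U)) [P.IsMaximal], Algebra Γ(X, U) (X.presheaf.stalk (pt P)) :=
    fun P _ => (X.presheaf.germ U (pt P) (hpt P)).hom.toAlgebra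
  letI mB : ∀ (P : Ideal Γ(X, U)) [P.IsMaximal], Module Γ(X, U) (F.presheaf.stalk (pt P)) :=
    fun P _ => moduleStalkSections F U (pt P) (hpt P)
  haveI : ∀ (P : Ideal Γ(X, U)) [P.IsMaximal],
      IsScalarTower Γ(X, U) (X.presheaf.stalk (pt P)) (F.presheaf.stalk (pt P)) :=
    fun P _ => IsScalarTower.of_compHom _ _ _
  have hloc : ∀ (P : Ideal Γ(X, U)) [P.IsMaximal],
      IsLocalization.AtPrime (X.presheaf.stalk (pt P)) P := fun P _ => by
    have h1 := hU.isLocalization_stalk ⟨pt P, hpt P⟩
    have h2 : hU.primeIdealOf ⟨pt P, hpt P⟩ = ⟨P, inferInstance⟩ :=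
      primeIdealOf_fromSpec hU ⟨P, inferInstance⟩ (hpt P)
    rw [h2] at h1
    exact h1
  have hlocM : ∀ (P : Ideal Γ(X, U)) [P.IsMaximal],
      IsLocalizedModule.AtPrime P (germLinear F U (pt P) (hpt P)) := fun P _ => by
    have h1 := isLocalizedModule_germLinear F hU (pt P) (hpt P)
    have h2 : hU.primeIdealOf ⟨pt P, hpt P⟩ = ⟨P, inferInstance⟩ :=
      primeIdealOf_fromSpec hU ⟨P, inferInstance⟩ (hpt P)
    rw [h2] at h1
    exact h1
  exact @Module.injective_of_localization_maximal' Γ(X, U) _ Γ(F, U) _ _
    (fun P _ => X.presheaf.stalk (pt P)) (fun P _ => inferInstance) (fun P _ => inferInstance)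
    (fun P _ => aB P) (fun P _ => hloc P)
    (fun P _ => F.presheaf.stalk (pt P)) (fun P _ => inferInstance) (fun P _ => mB P)
    (fun P _ => inferInstance) (fun P _ => inferInstance)
    (fun P _ => germLinear F U (pt P) (hpt P)) (fun P _ => hlocM P) inferInstance inferInstance
    (fun P hP => H (pt P) (hpt P))

end Groth.Agent.Lib.Helper23.RDInj

namespace Groth.Agent.Lib.Helper23.RDInj

open Groth.Agent.Lib.Helper17.ModStalk Groth.Agent.Lib.Helper17.FlatDict

universe u

variable {X : Scheme.{u}}

/-- a quasi-coherent module whose sections over the affine open `U` form an injective module over the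
Noetherian ring `Γ(X, U)` restricts to an injective module on `U`. -/
theorem injective_restrict_of_injective_sections (F : X.Modules) [F.IsQuasicoherent] {U : X.Opens}
    (hU : IsAffineOpen U) [IsNoetherianRing Γ(X, U)]
    (H : Module.Injective Γ(X, U) Γ(F, U)) :
    Injective ((Scheme.Modules.restrictFunctor U.ι).obj F) := by
  let G : (Spec Γ(X, U)).Modules := F.restrict hU.fromSpec
  haveI : G.IsQuasicoherent := Scheme.Modules.isQuasicoherent_restrictFunctor hU.fromSpec F
  let M : ModuleCat.{u} Γ(X, U) := moduleSpecΓFunctor.obj G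
  have hM : Module.Injective Γ(X, U) M :=
    (Module.Baer.of_equiv (Groth.Agent.Lib.Helper29.FPDict.linearEquivFromSpec F hU).symm
      (Module.Baer.of_injective H)).injective
  have h1 : Injective (tilde M) := injective_tilde M hM
  haveI hiso : IsIso G.fromTildeΓ := (isQuasicoherent_iff_isIso_fromTildeΓ G).1 inferInstance
  have h2 : Injective G := Injective.of_iso (asIso G.fromTildeΓ) h1
  have h3 : Injective ((Scheme.Modules.restrictFunctor hU.isoSpec.hom).obj G) :=
    ((Groth.Agent.Lib.Helper26.LocInj.restrictEquiv hU.isoSpec).map_injective_iff G).2 h2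
  let iso : (Scheme.Modules.restrictFunctor hU.isoSpec.hom).obj G ≅
      (Scheme.Modules.restrictFunctor U.ι).obj F :=
    ((Scheme.Modules.restrictFunctorComp hU.isoSpec.hom hU.fromSpec).app F).symm ≪≫
      (Scheme.Modules.restrictFunctorCongr hU.isoSpec_hom_fromSpec).app F
  exact Injective.of_iso iso h3

/-- **RD II.7.17 (iv) ⇒ (i)**: a quasi-coherent module with injective stalks on a locally Noetherian
scheme is an injective `O_X`-module. -/
theorem injective_of_injective_stalks [IsLocallyNoetherian X] (F : X.Modules) [F.IsQuasicoherent]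
    (H : ∀ x : X, Module.Injective (X.presheaf.stalk x) (F.presheaf.stalk x)) : Injective F := by
  apply Groth.Agent.Lib.Helper26.LocInj.main
  intro x
  obtain ⟨V, hV, hxV, -⟩ := Opens.isBasis_iff_nbhd.1 X.isBasis_affineOpens
    (show x ∈ (⊤ : X.Opens) from trivial)
  haveI : IsNoetherianRing Γ(X, V) := IsLocallyNoetherian.component_noetherian ⟨V, hV⟩
  exact ⟨V, hxV, injective_restrict_of_injective_sections F hV
    (injective_sections_of_injective_stalks F hV (fun y _ => H y))⟩

end Groth.Agent.Lib.Helper23.RDInj
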