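import Mathlib
import Groth.Agent.S12902
import Groth.Agent.S12903
import Groth.Agent.Lib.Helper23.RDInj.QCohInj
import Groth.Agent.Lib.Helper23.RDInj.SectionsInj
import Groth.Agent.Lib.Helper23.RDInj.PowTorsion

/-!
# Helper23 — RDInj.GammaZInj: on a locally Noetherian scheme, `Γ_Z` of an injective quasi-coherent
module is injective
-/

set_option autoImplicit false
set_option linter.style.haveILetI false
set_option backward.isDefEq.respectTransparency.types false

open CategoryTheory CategoryTheory.Limits AlgebraicGeometry TopologicalSpace Opposite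

namespace Groth.Agent.Lib.Helper23.RDInj

universe u

variable {X : Scheme.{u}}

/-- an ideal of the sections over an affine open cutting out a given closed subset. -/
theorem exists_ideal_cutting {V : X.Opens} (hV : IsAffineOpen V) (Z : Set X) (hZ : IsClosed Z) :
    ∃ a : Ideal Γ(X, V), ∀ x : X, x ∈ V → (x ∈ Z ↔ ∀ f ∈ a, x ∉ X.basicOpen f) := by
  let S : Set (PrimeSpectrum Γ(X, V)) := hV.fromSpec.base ⁻¹' Z
  have hS : IsClosed S := hZ.preimage hV.fromSpec.base.hom.continuous
  refine ⟨PrimeSpectrum.vanishingIdeal S, fun x hxV => ?_⟩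
  let p : PrimeSpectrum Γ(X, V) := hV.primeIdealOf ⟨x, hxV⟩
  have hp : hV.fromSpec p = x := hV.fromSpec_primeIdealOf ⟨x, hxV⟩
  have h1 : x ∈ Z ↔ p ∈ S := by
    change _ ↔ hV.fromSpec p ∈ Z
    rw [hp]
  have h2 : p ∈ S ↔ p ∈ PrimeSpectrum.zeroLocus (PrimeSpectrum.vanishingIdeal S : Set Γ(X, V)) := by
    rw [PrimeSpectrum.zeroLocus_vanishingIdeal_eq_closure, hS.closure_eq]
  rw [h1, h2, PrimeSpectrum.mem_zeroLocus]
  have h3 : ∀ f : Γ(X, V), x ∈ X.basicOpen f ↔ f ∉ p.asIdeal := by
    intro f
    have : p ∈ hV.fromSpec ⁻¹ᵁ X.basicOpen f ↔ p ∈ PrimeSpectrum.basicOpen f := by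
      rw [hV.fromSpec_preimage_basicOpen]
      exact Iff.rfl
    rw [PrimeSpectrum.mem_basicOpen] at this
    rw [← this]
    change _ ↔ hV.fromSpec p ∈ X.basicOpen f
    rw [hp]
  constructor
  · intro h f hf
    rw [h3, not_not]
    exact h hf
  · intro h f hf
    have := h f hf
    rw [h3, not_not] at this
    exact this

/-- `Γ_Z` of an injective quasi-coherent module on a locally Noetherian scheme is injective. -/
theorem injective_gammaZ [IsLocallyNoetherian X] {U : Scheme.{u}} (j : U ⟶ X) [IsOpenImmersion j]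
    (I : X.Modules) [I.IsQuasicoherent] [Injective I] :
    Injective ((DCoh.gammaZ j).obj I) := by
  have hG : Coh.IsQCoh ((DCoh.gammaZ j).obj I) := Groth.Agent.S12902.result j I ‹_›
  haveI : ((DCoh.gammaZ j).obj I).IsQuasicoherent := hG
  apply Groth.Agent.Lib.Helper26.LocInj.main
  intro x
  obtain ⟨V, hV, hxV, -⟩ := Opens.isBasis_iff_nbhd.1 X.isBasis_affineOpens
    (show x ∈ (⊤ : X.Opens) from trivial)
  haveI : IsNoetherianRing Γ(X, V) := IsLocallyNoetherian.component_noetherian ⟨V, hV⟩
  refine ⟨V, hxV, injective_restrict_of_injective_sections _ hV ?_⟩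
  haveI hE : Module.Injective Γ(X, V) Γ(I, V) := injective_sections_of_injective I inferInstance hV
  obtain ⟨a, ha⟩ := exists_ideal_cutting hV (Set.range j.base)ᶜ
    (j.isOpenEmbedding.isOpen_range.isClosed_compl)
  have hT := injective_powTorsion a Γ(I, V)
  let ι : (DCoh.gammaZ j).obj I ⟶ I := (CxOX.gammaZι j).app I
  haveI : Mono ι := by
    dsimp only [ι, CxOX.gammaZι]
    exact equalizer.ι_mono
  let φ : Γ((DCoh.gammaZ j).obj I, V) →ₗ[Γ(X, V)] Γ(I, V) := (ι.val.app (op V)).hom
  have hφ : Function.Injective φ := by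
    have h1 : (SheafOfModules.forget X.ringCatSheaf).PreservesMonomorphisms :=
      Functor.preservesMonomorphisms_of_adjunction
        (PresheafOfModules.sheafificationAdjunction (𝟙 X.ringCatSheaf.obj))
    have h2 : Mono ι.val :=
      @Functor.map_mono _ _ _ _ (SheafOfModules.forget X.ringCatSheaf) h1 _ _ ι ‹_›
    exact PresheafOfModules.injective_of_mono ι.val (op V)
  have hrange : LinearMap.range φ = powTorsion a Γ(I, V) := by
    ext s
    have h := Groth.Agent.S12903.result j I ‹_› V hV a (IsNoetherian.noetherian a)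
      (fun x hx => by
        have := ha x hx
        rw [Set.mem_compl_iff] at this
        exact this) s
    exact h
  let e : Γ((DCoh.gammaZ j).obj I, V) ≃ₗ[Γ(X, V)] powTorsion a Γ(I, V) :=
    (LinearEquiv.ofInjective φ hφ).trans (LinearEquiv.ofEq _ _ hrange)
  exact (Module.Baer.of_equiv e.symm (Module.Baer.of_injective hT)).injective

end Groth.Agent.Lib.Helper23.RDInj
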