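import Mathlib
import Groth.Agent.Lib.Helper16.PushStalk
import Groth.Agent.Lib.Helper26.Matlis
import Groth.Agent.Lib.Helper23.RDInj.SkyIso
import Groth.Agent.Lib.Helper23.RDInj.TildeSupp

/-!
# Helper23 — RDInj.PushHull: the direct image of `N~` along `Spec O_{X,x} ⟶ X` for a
power-torsion module `N` is the skyscraper at `x` with value `N`
-/

set_option autoImplicit false

open CategoryTheory CategoryTheory.Limits AlgebraicGeometry TopologicalSpace Opposite

namespace Groth.Agent.Lib.Helper23.RDInj

open Groth.Agent.Lib.Helper16 Groth.Agent.Lib.Helper16.Stk Groth.Agent.Lib.Helper16.PushStalk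

universe u

variable (X : Scheme.{u}) (x : X) (N : ModuleCat.{u} (X.presheaf.stalk x))

/-- the germ maps of `i_* N~` at `x` are bijective. -/
theorem germ_FF_bijective (U : X.Opens) (hx : x ∈ U) :
    Function.Bijective ((FF X x N).presheaf.germ U x hx) := by
  have hto := toOpen_bijective_of_eq_top X x N _ (preimage_eq_top X x U hx)
  have hψ := ψₗ_bijective X x N
  have hcomp : ∀ n : N, (FF X x N).presheaf.germ U x hx (sec X x N U n) = ψₗ X x N n := by
    intro n
    exact ψ_eq X x N (V := U) (W := ⊤) hx trivial n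
  constructor
  · intro s t hst
    obtain ⟨n, rfl⟩ := hto.2 s
    obtain ⟨n', rfl⟩ := hto.2 t
    have h1 := hcomp n
    have h2 := hcomp n'
    have : ψₗ X x N n = ψₗ X x N n' := by
      rw [← h1, ← h2]
      exact hst
    rw [hψ.1 this]
  · intro μ
    obtain ⟨n, rfl⟩ := hψ.2 μ
    exact ⟨sec X x N U n, hcomp n⟩

/-- the sections of `i_* N~` away from `x` vanish, if `N` is power torsion. -/
theorem subsingleton_FF (hN : LocCoh.IsPowerTorsion (IsLocalRing.maximalIdeal (X.presheaf.stalk x)) N)
    (U : X.Opens) (hx : x ∉ U) : Subsingleton Γ(FF X x N, U) := by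
  refine subsingleton_sections_tilde N ((X.fromSpecStalk x) ⁻¹ᵁ U) ?_
  intro p hp n
  have hpne : p ≠ IsLocalRing.closedPoint (X.presheaf.stalk x) := by
    rintro rfl
    apply hx
    have : (X.fromSpecStalk x) (IsLocalRing.closedPoint (X.presheaf.stalk x)) ∈ U := hp
    rwa [Scheme.fromSpecStalk_closedPoint] at this
  have hlt : ¬ (IsLocalRing.maximalIdeal (X.presheaf.stalk x) ≤ p.asIdeal) := by
    intro hle
    apply hpne
    apply PrimeSpectrum.ext
    exact (IsLocalRing.le_maximalIdeal p.2.ne_top).antisymm hle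
  obtain ⟨f, hfm, hfp⟩ := SetLike.not_le_iff_exists.1 hlt
  obtain ⟨k, hk⟩ := hN n
  refine ⟨f ^ k, ?_, hk _ (Ideal.pow_mem_pow hfm k)⟩
  exact p.asIdeal.primeCompl.pow_mem hfp k

/-- `i_* N~` is injective when `N` is an injective power-torsion module. -/
theorem injective_FF (hN : LocCoh.IsPowerTorsion (IsLocalRing.maximalIdeal (X.presheaf.stalk x)) N)
    (hinj : Module.Injective (X.presheaf.stalk x) N) : Injective (FF X x N) := by
  refine injective_of_sky x (FF X x N) (germ_FF_bijective X x N) (subsingleton_FF X x N hN) ?_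
  have e : N ≃ₗ[X.presheaf.stalk x] (FF X x N).presheaf.stalk x :=
    LinearEquiv.ofBijective (ψₗ X x N) (ψₗ_bijective X x N)
  exact (Module.Baer.of_equiv e (Module.Baer.of_injective hinj)).injective

end Groth.Agent.Lib.Helper23.RDInj
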