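import Mathlib
import Groth.Agent.Lib.Helper23.RDInj.SectionsInj
import Groth.Agent.Lib.Helper23.RDInj.BaerFP

/-!
# Helper23 — RDInj.StalkInj: stalks of an injective `O_X`-module on a locally Noetherian scheme are
injective modules over the local rings (RD II.7.12)
-/

set_option autoImplicit false
set_option linter.style.haveILetI false
set_option backward.isDefEq.respectTransparency.types false

open CategoryTheory CategoryTheory.Limits AlgebraicGeometry TopologicalSpace Opposite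

namespace Groth.Agent.Lib.Helper23.RDInj

open Groth.Agent.Lib.Helper28.QCohLoc Groth.Agent.Lib.Helper29.QCohStalk
  Groth.Agent.Lib.Helper17.ModStalk

universe u

variable {X : Scheme.{u}}

/-- finitely many germs are germs of sections over a common neighbourhood. -/
theorem exists_common_sections (F : X.Modules) (x : X) (U : X.Opens) (hx : x ∈ U) {n : ℕ}
    (y : Fin n → F.presheaf.stalk x) :
    ∃ (V : X.Opens) (_ : V ≤ U) (hxV : x ∈ V) (s : Fin n → Γ(F, V)),
      ∀ i, gm F V x hxV (s i) = y i := by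
  choose W hW t ht using fun i => TopCat.Presheaf.exists_germ_eq F.presheaf (y i)
  have hxW : x ∈ ⨅ i, W i := by
    rw [← SetLike.mem_coe, Opens.coe_iInf, Set.mem_iInter]
    exact hW
  refine ⟨U ⊓ ⨅ i, W i, inf_le_left, ⟨hx, hxW⟩,
    fun i => res F (inf_le_right.trans (iInf_le W i)) (t i), fun i => ?_⟩
  rw [← ht i]
  exact gm_res F _ x _ (t i)

/-- finitely many sections with vanishing germs vanish on a common neighbourhood. -/
theorem exists_common_vanishing (F : X.Modules) (x : X) (V : X.Opens) (hx : x ∈ V) {m : ℕ}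
    (r : Fin m → Γ(F, V)) (hr : ∀ l, gm F V x hx (r l) = 0) :
    ∃ (W : X.Opens) (hW : W ≤ V) (_ : x ∈ W), ∀ l, res F hW (r l) = 0 := by
  have h0 : ∀ l, ∃ (W : X.Opens) (hW : W ≤ V) (_ : x ∈ W), res F hW (r l) = 0 := by
    intro l
    have h1 : F.presheaf.germ V x hx (r l) = F.presheaf.germ V x hx 0 := by
      rw [map_zero]
      exact hr l
    obtain ⟨W, hxW, iU, iV, hres⟩ := TopCat.Presheaf.germ_eq F.presheaf x hx hx _ _ h1
    refine ⟨W, iU.le, hxW, ?_⟩
    have h2 : F.presheaf.map iV.op (0 : Γ(F, V)) = 0 := map_zero _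
    rw [h2] at hres
    exact hres
  choose W hW hxW hres using h0
  have hxI : x ∈ ⨅ l, W l := by
    rw [← SetLike.mem_coe, Opens.coe_iInf, Set.mem_iInter]
    exact hxW
  refine ⟨V ⊓ ⨅ l, W l, inf_le_left, ⟨hx, hxI⟩, fun l => ?_⟩
  have hle : V ⊓ ⨅ l, W l ≤ W l := inf_le_right.trans (iInf_le W l)
  have := congrArg (res F hle) (hres l)
  rw [res_res, res_zero] at this
  exact this

/-- the restriction maps between affine opens are flat. -/
theorem flat_resO {U V : X.Opens} (hU : IsAffineOpen U) (hV : IsAffineOpen V) (hVU : V ≤ U) :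
    (X.presheaf.map (homOfLE hVU).op).hom.Flat := by
  have h := HasRingHomProperty.appLE (P := @Flat) (𝟙 X) inferInstance ⟨U, hU⟩ ⟨V, hV⟩ hVU
  have e : (𝟙 X : X ⟶ X).appLE U V hVU = X.presheaf.map (homOfLE hVU).op := by
    simp only [Scheme.Hom.appLE, Scheme.Hom.id_app]
    exact Category.id_comp _
  rwa [e] at h

/-- **RD II.7.12**: stalks of an injective `O_X`-module on a locally Noetherian scheme are
injective. -/
theorem injective_stalk_of_injective [IsLocallyNoetherian X] (I : X.Modules) (hI : Injective I)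
    (x : X) : Module.Injective (X.presheaf.stalk x) (I.presheaf.stalk x) := by
  obtain ⟨U, hU, hxU, -⟩ := Opens.isBasis_iff_nbhd.1 X.isBasis_affineOpens
    (show x ∈ (⊤ : X.Opens) from trivial)
  haveI : IsNoetherianRing Γ(X, U) := IsLocallyNoetherian.component_noetherian ⟨U, hU⟩
  letI aB : Algebra Γ(X, U) (X.presheaf.stalk x) := (X.presheaf.germ U x hxU).hom.toAlgebra
  haveI hloc : IsLocalization (hU.primeIdealOf ⟨x, hxU⟩).asIdeal.primeCompl (X.presheaf.stalk x) :=
    hU.isLocalization_stalk ⟨x, hxU⟩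
  have halg : ∀ c : Γ(X, U), algebraMap Γ(X, U) (X.presheaf.stalk x) c =
      X.presheaf.germ U x hxU c := fun _ => rfl
  apply Module.Baer.injective
  intro 𝔞 φ
  let 𝔟 : Ideal Γ(X, U) := 𝔞.comap (algebraMap Γ(X, U) (X.presheaf.stalk x))
  obtain ⟨n, b, m, k, hb, hrel, hlift⟩ := exists_fin_presentation 𝔟
  have hbmem : ∀ c : 𝔟, algebraMap Γ(X, U) (X.presheaf.stalk x) (c : Γ(X, U)) ∈ 𝔞 := fun c => c.2
  let Φ : 𝔟 → I.presheaf.stalk x := fun c => φ ⟨algebraMap _ _ (c : Γ(X, U)), hbmem c⟩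
  have hΦadd : ∀ c c' : 𝔟, Φ (c + c') = Φ c + Φ c' := by
    intro c c'
    change φ _ = φ _ + φ _
    rw [← map_add]
    congr 1
    apply Subtype.ext
    simp
  have hΦsmul : ∀ (a : Γ(X, U)) (c : 𝔟), Φ (a • c) = X.presheaf.germ U x hxU a • Φ c := by
    intro a c
    change φ _ = _ • φ _
    rw [← halg, ← map_smul]
    congr 1
    apply Subtype.ext
    simp [Algebra.smul_def]
  have hΦzero : Φ 0 = 0 := by
    change φ _ = 0
    have : (⟨algebraMap Γ(X, U) (X.presheaf.stalk x) ((0 : 𝔟) : Γ(X, U)), hbmem 0⟩ : 𝔞) = 0 := by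
      apply Subtype.ext
      simp
    rw [this, map_zero]
  have hΦsum : ∀ (t : Finset (Fin n)) (a : Fin n → Γ(X, U)),
      Φ (∑ i ∈ t, a i • b i) = ∑ i ∈ t, X.presheaf.germ U x hxU (a i) • Φ (b i) := by
    intro t a
    induction t using Finset.induction_on with
    | empty => simpa using hΦzero
    | insert i t hi ih => rw [Finset.sum_insert hi, Finset.sum_insert hi, hΦadd, hΦsmul, ih]
  -- sections representing the images of the generators
  obtain ⟨V₀, hV₀U, hxV₀, s₀, hs₀⟩ := exists_common_sections I x U hxU (fun i => Φ (b i))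
  let r : Fin m → Γ(I, V₀) := fun l => ∑ i, resO hV₀U (k l i) • s₀ i
  have hr : ∀ l, gm I V₀ x hxV₀ (r l) = 0 := by
    intro l
    change I.presheaf.germ V₀ x hxV₀ (∑ i, resO hV₀U (k l i) • s₀ i) = 0
    rw [map_sum]
    have h1 : ∀ i, I.presheaf.germ V₀ x hxV₀ (resO hV₀U (k l i) • s₀ i) =
        X.presheaf.germ U x hxU (k l i) • Φ (b i) := by
      intro i
      have := gm_smul I V₀ x hxV₀ (resO hV₀U (k l i)) (s₀ i)
      rw [germ_resO hV₀U x hxV₀ (k l i), hs₀ i] at this
      exact this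
    rw [Finset.sum_congr rfl (fun i _ => h1 i), ← hΦsum, hrel l, hΦzero]
  obtain ⟨W₀, hW₀, hxW₀, hvan⟩ := exists_common_vanishing I x V₀ hxV₀ r hr
  obtain ⟨V, hV, hxV, hVW₀⟩ := Opens.isBasis_iff_nbhd.1 X.isBasis_affineOpens hxW₀
  have hVV₀ : V ≤ V₀ := hVW₀.trans hW₀
  have hVU : V ≤ U := hVV₀.trans hV₀U
  let ρ : Γ(X, U) →+* Γ(X, V) := (X.presheaf.map (homOfLE hVU).op).hom
  have hρ : ∀ c, ρ c = resO hVU c := fun _ => rfl
  letI mP : Module Γ(X, U) Γ(I, V) := Module.compHom Γ(I, V) ρ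
  have hsm : ∀ (c : Γ(X, U)) (z : Γ(I, V)), c • z = resO hVU c • z := fun _ _ => rfl
  let s : Fin n → Γ(I, V) := fun i => res I hVV₀ (s₀ i)
  have hsrel : ∀ l, ∑ i, k l i • s i = 0 := by
    intro l
    have h1 : ∀ i, k l i • s i = res I hVV₀ (resO hV₀U (k l i) • s₀ i) := by
      intro i
      rw [hsm, res_smul, resO_resO]
    rw [Finset.sum_congr rfl (fun i _ => h1 i)]
    have h2 : ∑ i, res I hVV₀ (resO hV₀U (k l i) • s₀ i) = res I hVV₀ (r l) :=
      (map_sum (I.presheaf.map (homOfLE hVV₀).op).hom _ _).symm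
    rw [h2]
    have h3 := congrArg (res I hVW₀) (hvan l)
    rw [res_res, res_zero] at h3
    exact h3
  obtain ⟨ψ, hψ⟩ := hlift Γ(I, V) s hsrel
  -- extend `ψ` using the injectivity of `Γ(I, V)`
  haveI : Module.Injective Γ(X, V) Γ(I, V) := injective_sections_of_injective I hI hV
  haveI hPinj : Module.Injective Γ(X, U) Γ(I, V) :=
    injective_compHom_of_flat ρ (flat_resO hU hV hVU) Γ(I, V)
  obtain ⟨ψ', hψ'⟩ := Module.Baer.of_injective hPinj 𝔟 ψ
  let t : Γ(I, V) := ψ' 1
  have ht : ∀ c : 𝔟, ψ c = resO hVU (c : Γ(X, U)) • t := by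
    intro c
    have h1 : ψ c = ψ' (c : Γ(X, U)) := (hψ' c.1 c.2).symm
    have h3 : ψ' ((c : Γ(X, U)) • (1 : Γ(X, U))) = (c : Γ(X, U)) • ψ' 1 := map_smul ψ' _ _
    rw [smul_eq_mul, mul_one] at h3
    rw [h1, h3]
    rfl
  -- the two maps agree on the generators, hence on `𝔟`
  have hagree : ∀ c : 𝔟, Φ c = gm I V x hxV (ψ c) := by
    intro c
    have hc : c ∈ Submodule.span Γ(X, U) (Set.range b) := by rw [hb]; trivial
    induction hc using Submodule.span_induction with
    | mem c hc =>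
      obtain ⟨i, rfl⟩ := hc
      rw [hψ i]
      have := gm_res I hVV₀ x hxV (s₀ i)
      rw [this, hs₀ i]
    | zero => rw [hΦzero, map_zero]; exact (gm_zero I V x hxV).symm
    | add c c' _ _ h1 h2 =>
      rw [hΦadd, map_add, h1, h2]
      exact (map_add (I.presheaf.germ V x hxV).hom _ _).symm
    | smul a c _ h1 =>
      rw [hΦsmul, map_smul, h1, hsm, gm_smul, germ_resO hVU x hxV a]
  refine ⟨LinearMap.toSpanSingleton (X.presheaf.stalk x) (I.presheaf.stalk x) (gm I V x hxV t), ?_⟩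
  intro a ha
  rw [LinearMap.toSpanSingleton_apply]
  obtain ⟨⟨c, σ⟩, hcσ⟩ := IsLocalization.surj (hU.primeIdealOf ⟨x, hxU⟩).asIdeal.primeCompl a
  have hcσ' : a * algebraMap Γ(X, U) (X.presheaf.stalk x) σ.1 =
      algebraMap Γ(X, U) (X.presheaf.stalk x) c := hcσ
  have hc𝔟 : c ∈ 𝔟 := by
    change algebraMap Γ(X, U) (X.presheaf.stalk x) c ∈ 𝔞
    rw [← hcσ']
    exact 𝔞.mul_mem_right _ ha
  have hunit : IsUnit (algebraMap Γ(X, U) (X.presheaf.stalk x) σ.1) :=
    IsLocalization.map_units (X.presheaf.stalk x) σ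
  have key : algebraMap Γ(X, U) (X.presheaf.stalk x) σ.1 • (a • gm I V x hxV t) =
      algebraMap Γ(X, U) (X.presheaf.stalk x) σ.1 • φ ⟨a, ha⟩ := by
    have h1 : algebraMap Γ(X, U) (X.presheaf.stalk x) σ.1 • φ ⟨a, ha⟩ = Φ ⟨c, hc𝔟⟩ := by
      rw [← map_smul]
      change φ _ = φ _
      congr 1
      apply Subtype.ext
      change algebraMap Γ(X, U) (X.presheaf.stalk x) σ.1 * a = algebraMap Γ(X, U) (X.presheaf.stalk x) c
      rw [mul_comm]
      exact hcσ'
    rw [h1, hagree, ht, gm_smul, germ_resO hVU x hxV c, ← halg, ← hcσ', mul_comm, mul_smul]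
  obtain ⟨v, hv⟩ := hunit
  rw [← hv] at key
  have := congrArg (fun z => (↑v⁻¹ : X.presheaf.stalk x) • z) key
  simpa [smul_smul] using this

end Groth.Agent.Lib.Helper23.RDInj
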